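import Groth.Agent.RelDim.Prescribed
import Groth.Agent.CMSeq.Basic
import Groth.Agent.S9180

/-!
# Regular sequences in Cohen–Macaulay local rings of fibres
-/

set_option autoImplicit false
set_option linter.style.haveILetI false

universe u

open TensorProduct RingTheory.Sequence

namespace Groth.Agent.RelDim

/-- Cohen–Macaulay local rings are preserved by isomorphisms. -/
lemma isCohenMacaulayLocalRing_ringEquiv {A B : Type u} [CommRing A] [CommRing B] (e : A ≃+* B)
    [h : LocCoh.IsCohenMacaulayLocalRing A] : LocCoh.IsCohenMacaulayLocalRing B := by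
  haveI : IsNoetherianRing B := isNoetherianRing_of_ringEquiv A e
  haveI : Nontrivial B := e.symm.toEquiv.nontrivial
  haveI : IsLocalRing B := IsLocalRing.of_surjective' e.toRingHom e.surjective
  letI := e.toRingHom.toAlgebra
  let l : A ≃ₗ[A] B := (AlgEquiv.ofRingEquiv (R := A) (A₁ := A) (A₂ := B) (f := e) fun _ => rfl).toLinearEquiv
  haveI : Module.Finite A B := Module.Finite.equiv l
  exact Depth.isCohenMacaulayLocalRing_iff.2
    ((Depth.isCohenMacaulayModule_iff_of_surjective (R := A) (S := B) (N := B) e.surjective).2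
      ((Depth.isCohenMacaulayModule_congr l).1 h.supportDim_eq_depth))

/-- In a Cohen–Macaulay local ring a sequence in the maximal ideal is regular iff it cuts the
dimension down by its length. -/
lemma isRegular_iff_ringKrullDim_le {L : Type u} [CommRing L] [h : LocCoh.IsCohenMacaulayLocalRing L]
    (xs : List L) (hxs : Ideal.ofList xs ≤ IsLocalRing.maximalIdeal L) :
    IsRegular L xs ↔
      ringKrullDim (L ⧸ Ideal.ofList xs) + (xs.length : WithBot ℕ∞) ≤ ringKrullDim L := by
  classical
  refine ⟨fun hr => (ringKrullDim_add_length_eq_ringKrullDim_of_isRegular xs hr).le, fun hle => ?_⟩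
  haveI : Nontrivial (L ⧸ Ideal.ofList xs) :=
    Ideal.Quotient.nontrivial_iff.2 fun ht =>
      (IsLocalRing.maximalIdeal.isMaximal L).ne_top (top_le_iff.1 (ht ▸ hxs))
  haveI : IsLocalRing (L ⧸ Ideal.ofList xs) :=
    IsLocalRing.of_surjective' (Ideal.Quotient.mk _) Ideal.Quotient.mk_surjective
  obtain ⟨s, hs, hcard⟩ :=
    (IsLocalRing.maximalIdeal (L ⧸ Ideal.ofList xs)).exists_finset_card_eq_height_of_isNoetherianRing
  let ys : List L := s.toList.map (Function.surjInv Ideal.Quotient.mk_surjective)
  have hys : (Ideal.ofList ys).map (Ideal.Quotient.mk (Ideal.ofList xs)) =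
      Ideal.span (s : Set (L ⧸ Ideal.ofList xs)) := by
    rw [Ideal.map_ofList, List.map_map]
    have : (Ideal.Quotient.mk (Ideal.ofList xs)) ∘ Function.surjInv Ideal.Quotient.mk_surjective = id :=
      funext fun x => Function.surjInv_eq Ideal.Quotient.mk_surjective x
    rw [this, List.map_id]
    exact congrArg Ideal.span (Set.ext fun z => by simp)
  have hall : Ideal.ofList (xs ++ ys) ≤ IsLocalRing.maximalIdeal L := by
    rw [Ideal.ofList_append]
    refine sup_le hxs fun y hy => ?_
    by_contra hu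
    have h1 : IsUnit y := by_contra fun h' => hu h'
    exact (IsLocalRing.mem_maximalIdeal _).1 (hs.1.2 (hys ▸ Ideal.mem_map_of_mem _ hy)) (h1.map _)
  have hrad : IsLocalRing.maximalIdeal L ≤
      (Module.annihilator L L ⊔ Ideal.ofList (xs ++ ys)).radical := by
    refine le_trans ?_ (Ideal.radical_mono le_sup_right)
    rw [Ideal.ofList_append, Ideal.radical_eq_sInf]
    refine le_sInf fun M hM => ?_
    haveI := hM.2
    have hker : RingHom.ker (Ideal.Quotient.mk (Ideal.ofList xs)) ≤ M := by
      rw [Ideal.mk_ker]; exact le_sup_left.trans hM.1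
    haveI : (M.map (Ideal.Quotient.mk (Ideal.ofList xs))).IsPrime :=
      Ideal.map_isPrime_of_surjective Ideal.Quotient.mk_surjective hker
    have h1 := hs.2 (y := M.map (Ideal.Quotient.mk (Ideal.ofList xs)))
      ⟨inferInstance, hys ▸ Ideal.map_mono (le_sup_right.trans hM.1)⟩
      (IsLocalRing.le_maximalIdeal Ideal.IsPrime.ne_top')
    intro z hz
    have hz' : Ideal.Quotient.mk (Ideal.ofList xs) z ∈
        IsLocalRing.maximalIdeal (L ⧸ Ideal.ofList xs) := by
      rw [← IsLocalRing.map_maximalIdeal_of_surjective _ Ideal.Quotient.mk_surjective]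
      exact Ideal.mem_map_of_mem _ hz
    obtain ⟨w, hw, hwz⟩ := (Ideal.mem_map_iff_of_surjective _ Ideal.Quotient.mk_surjective).1 (h1 hz')
    have : z - w ∈ M := hker (by rw [RingHom.mem_ker, map_sub, hwz, sub_self])
    simpa using M.add_mem this hw
  have hlen : ((xs ++ ys).length : WithBot ℕ∞) ≤ Module.supportDim L L := by
    rw [Module.supportDim_self_eq_ringKrullDim, List.length_append, Nat.cast_add]
    refine le_trans (le_of_eq ?_) hle
    rw [← IsLocalRing.maximalIdeal_height_eq_ringKrullDim, ← hcard, add_comm]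
    simp [ys]
  have hwk := CMSeq.isWeaklyRegular_of_radical (xs ++ ys) L h.supportDim_eq_depth hall hrad hlen
  refine ⟨((isWeaklyRegular_append_iff L xs ys).1 hwk).1, ?_⟩
  rw [Ideal.smul_eq_mul, Ideal.mul_top]
  exact fun ht => (IsLocalRing.maximalIdeal.isMaximal L).ne_top (top_le_iff.1 (ht ▸ hxs))

section Fibre

variable {R S : Type u} [CommRing R] [CommRing S] [Algebra R S]

/-- A residue field extension of a finite type algebra has finite transcendence degree. -/
lemma exists_trdeg_eq [Algebra.FiniteType R S] (p : Ideal R) [p.IsPrime] (q : Ideal S) [q.IsPrime]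
    [q.LiesOver p] [Algebra p.ResidueField q.ResidueField]
    [IsScalarTower R p.ResidueField q.ResidueField] :
    ∃ r : ℕ, Algebra.trdeg p.ResidueField q.ResidueField = r := by
  obtain ⟨Q, hQ⟩ : ∃ Q : PrimeSpectrum (p.Fiber S),
      Q.asIdeal.comap Algebra.TensorProduct.includeRight.toRingHom = q :=
    ⟨_, congr($((PrimeSpectrum.preimageEquivFiber R S ⟨p, inferInstance⟩).symm_apply_apply
      ⟨⟨q, inferInstance⟩, PrimeSpectrum.ext (q.over_def p).symm⟩).1.asIdeal)⟩
  obtain ⟨eK, heK⟩ := exists_residueFieldEquiv p q Q.asIdeal hQ.symm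
  haveI := VarDim.finiteType_quotient p.ResidueField (p.Fiber S) Q.asIdeal
  obtain ⟨r, -, hr, -⟩ := VarDim.exists_ringKrullDim_eq_trdeg p.ResidueField (p.Fiber S ⧸ Q.asIdeal)
  refine ⟨r, ?_⟩
  have key : ∀ {k F : Type u} [Field k] [CommRing F] [Algebra k F] (Q : Ideal F) [Q.IsPrime]
      {K : Type u} [Field K] [Algebra k K] (e : K ≃+* Q.ResidueField)
      (_ : ∀ c, e (algebraMap k K c) = algebraMap F Q.ResidueField (algebraMap k F c))
      (r : ℕ) (_ : Algebra.trdeg k (F ⧸ Q) = r), Algebra.trdeg k K = r := by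
    intro k F _ _ _ Q _ K _ _ e he r hr
    haveI : Algebra.IsAlgebraic (F ⧸ Q) Q.ResidueField :=
      IsLocalization.isAlgebraic Q.ResidueField (nonZeroDivisors (F ⧸ Q))
    rw [(AlgEquiv.ofRingEquiv (f := e) fun c =>
      (he c).trans (IsScalarTower.algebraMap_apply k F Q.ResidueField c).symm).trdeg_eq,
      ← trdeg_add_eq k (F ⧸ Q) (A := Q.ResidueField),
      trdeg_eq_zero (R := F ⧸ Q) (A := Q.ResidueField), add_zero, hr]
  exact key Q.asIdeal eK heK r hr

end Fibre

end Groth.Agent.RelDim
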