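import Groth.Agent.RelDim.QuasiFiniteMap
import Mathlib.RingTheory.Extension.Presentation.Core

/-!
# Chevalley semicontinuity of the fibre dimension (ring-theoretic form)
-/

set_option autoImplicit false
set_option linter.style.haveILetI false

universe u

open TensorProduct

namespace Groth.Agent.RelDim

section Basic

/-- The local dimension is bounded by the dimension of a basic neighbourhood. -/
lemma localDim_le_of_away {F : Type u} [CommRing F] (Q : PrimeSpectrum F) (f : F)
    (hf : f ∉ Q.asIdeal) :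
    FlatMor.localDim (PrimeSpectrum F) Q ≤ ringKrullDim (Localization.Away f) := by
  refine (TopDimLib.localDim_le (PrimeSpectrum.basicOpen f).2 hf).trans ?_
  rw [← PrimeSpectrum.topologicalKrullDim_eq_ringKrullDim]
  have he := (PrimeSpectrum.localization_away_isOpenEmbedding (Localization.Away f) f).isEmbedding
  exact (IsHomeomorph.topologicalKrullDim_eq _ (he.toHomeomorph.trans (Homeomorph.setCongr
    (PrimeSpectrum.localization_away_comap_range (Localization.Away f) f))).isHomeomorph).ge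

/-- The local dimension is invariant under ring isomorphisms. -/
lemma localDim_comap_equiv {A B : Type u} [CommRing A] [CommRing B] (e : A ≃+* B)
    (Q : PrimeSpectrum B) :
    FlatMor.localDim (PrimeSpectrum A) (PrimeSpectrum.comap e.toRingHom Q) =
      FlatMor.localDim (PrimeSpectrum B) Q := by
  let h : PrimeSpectrum A ≃ₜ PrimeSpectrum B := PrimeSpectrum.homeomorphOfRingEquiv e
  have hx : h (PrimeSpectrum.comap e.toRingHom Q) = Q := by
    refine PrimeSpectrum.ext (Ideal.ext fun x => ?_)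
    show e (e.symm x) ∈ Q.asIdeal ↔ x ∈ Q.asIdeal
    rw [e.apply_symm_apply]
  unfold FlatMor.localDim
  refine le_antisymm (le_iInf fun U => iInf_le_of_le ⟨⟨h ⁻¹' U.1, U.1.2.preimage h.continuous⟩, ?_⟩ ?_)
    (le_iInf fun U => iInf_le_of_le ⟨⟨h.symm ⁻¹' U.1, U.1.2.preimage h.symm.continuous⟩, ?_⟩ ?_)
  · show h _ ∈ (U.1 : Set (PrimeSpectrum B))
    rw [hx]; exact U.2
  · exact (IsHomeomorph.topologicalKrullDim_eq _ (h.image (h ⁻¹' (U.1 : Set (PrimeSpectrum B)))).isHomeomorph).le.trans
      (by rw [h.image_preimage])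
  · show h.symm _ ∈ (U.1 : Set (PrimeSpectrum A))
    exact (congrArg (· ∈ (U.1 : Set (PrimeSpectrum A))) ((congrArg h.symm hx).symm.trans (h.symm_apply_apply _))).mpr U.2
  · exact (IsHomeomorph.topologicalKrullDim_eq _ (h.symm.image (h.symm ⁻¹' (U.1 : Set (PrimeSpectrum A)))).isHomeomorph).le.trans
      (by rw [h.symm.image_preimage])

end Basic

section Chevalley

variable (R S : Type u) [CommRing R] [CommRing S] [Algebra R S]

/-- If `S_g` is quasi-finite over `R[t_1, …, t_n]`, the fibres of `S_g` have dimension at most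
`n`. -/
lemma ringKrullDim_fibre_away_le (n : ℕ) (g : S)
    (φ : MvPolynomial (Fin n) R →ₐ[R] Localization.Away g) (hφ : φ.toRingHom.QuasiFinite)
    (p : Ideal R) [p.IsPrime] :
    ringKrullDim (Localization.Away ((1 : p.ResidueField) ⊗ₜ[R] g : p.Fiber S)) ≤
      (n : WithBot ℕ∞) := by
  letI : Algebra (MvPolynomial (Fin n) R) (Localization.Away g) := φ.toRingHom.toAlgebra
  haveI : IsScalarTower R (MvPolynomial (Fin n) R) (Localization.Away g) :=
    IsScalarTower.of_algebraMap_eq fun x => (φ.commutes x).symm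
  haveI : Algebra.QuasiFinite (MvPolynomial (Fin n) R) (Localization.Away g) := hφ
  let f : p.Fiber S := (1 : p.ResidueField) ⊗ₜ[R] g
  let T := Localization.Away f
  let L := Localization.Away g
  let A := MvPolynomial (Fin n) R
  let c : PrimeSpectrum T → PrimeSpectrum S := fun P =>
    ((PrimeSpectrum.preimageOrderIsoFiber R S ⟨p, inferInstance⟩).symm
      (PrimeSpectrum.comap (algebraMap (p.Fiber S) T) P)).1
  have hcp : ∀ P, PrimeSpectrum.comap (algebraMap R S) (c P) = ⟨p, inferInstance⟩ := fun P =>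
    ((PrimeSpectrum.preimageOrderIsoFiber R S ⟨p, inferInstance⟩).symm
      (PrimeSpectrum.comap (algebraMap (p.Fiber S) T) P)).2
  have hc : StrictMono c := fun a b hab =>
    (PrimeSpectrum.preimageOrderIsoFiber R S ⟨p, inferInstance⟩).symm.strictMono
      (lt_of_le_of_ne (Ideal.comap_mono hab.le) fun h => hab.ne
        (PrimeSpectrum.localization_comap_injective T (Submonoid.powers f) h))
  have hcg : ∀ P, g ∉ (c P).asIdeal := fun P hP => P.2.ne_top
    (Ideal.eq_top_of_isUnit_mem _ (Ideal.mem_comap.1 (Ideal.mem_comap.1 hP))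
      (IsLocalization.Away.algebraMap_isUnit f))
  have hrange : ∀ P, ∃ P' : PrimeSpectrum L, PrimeSpectrum.comap (algebraMap S L) P' = c P :=
    fun P => (PrimeSpectrum.localization_away_comap_range L g).ge (hcg P)
  choose d hd using hrange
  have hdmono : StrictMono d := fun a b hab => by
    refine lt_of_le_of_ne ?_ fun h => (hc hab).ne (by rw [← hd a, ← hd b, h])
    show (d a).asIdeal ≤ (d b).asIdeal
    rw [← IsLocalization.map_under (Submonoid.powers g) L (d a).asIdeal,
      ← IsLocalization.map_under (Submonoid.powers g) L (d b).asIdeal]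
    refine Ideal.map_mono ?_
    show (PrimeSpectrum.comap (algebraMap S L) (d a)).asIdeal ≤
      (PrimeSpectrum.comap (algebraMap S L) (d b)).asIdeal
    rw [hd a, hd b]
    exact (hc hab).le
  let e : PrimeSpectrum T → PrimeSpectrum A := fun P => PrimeSpectrum.comap (algebraMap A L) (d P)
  have hep : ∀ P, PrimeSpectrum.comap (algebraMap R A) (e P) = ⟨p, inferInstance⟩ := fun P => by
    refine PrimeSpectrum.ext ?_
    show ((d P).asIdeal.comap (algebraMap A L)).comap (algebraMap R A) = p
    rw [Ideal.comap_comap, ← IsScalarTower.algebraMap_eq, IsScalarTower.algebraMap_eq R S L,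
      ← Ideal.comap_comap]
    show (PrimeSpectrum.comap (algebraMap S L) (d P)).asIdeal.comap (algebraMap R S) = p
    rw [hd P]
    exact congrArg PrimeSpectrum.asIdeal (hcp P)
  have he : StrictMono e := fun a b hab => lt_of_le_of_ne (Ideal.comap_mono (hdmono hab).le)
    fun h => (hdmono hab).ne (PrimeSpectrum.ext (Algebra.QuasiFinite.eq_of_le_of_under_eq
      (R := A) _ _ (hdmono hab).le (congrArg PrimeSpectrum.asIdeal h)))
  let ι : PrimeSpectrum T → PrimeSpectrum (p.Fiber A) := fun P =>
    PrimeSpectrum.preimageOrderIsoFiber R A ⟨p, inferInstance⟩ ⟨e P, hep P⟩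
  have hι : StrictMono ι := fun a b hab =>
    (PrimeSpectrum.preimageOrderIsoFiber R A ⟨p, inferInstance⟩).strictMono (he hab)
  refine (Order.krullDim_le_of_strictMono ι hι).trans (le_of_eq ?_)
  show ringKrullDim (p.Fiber A) = _
  rw [ringKrullDim_eq_of_ringEquiv (MvPolynomial.algebraTensorAlgEquiv R p.ResidueField).toRingEquiv,
    MvPolynomial.ringKrullDim_of_isNoetherianRing, ringKrullDim_eq_zero_of_field]
  simp

/-- The set of points whose fibre has local dimension at most `n`. -/
def dimLeSet (n : ℕ) : Set (PrimeSpectrum S) :=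
  {q : PrimeSpectrum S | ∀ Q : PrimeSpectrum ((q.asIdeal.under R).Fiber S),
    Q.asIdeal.comap (Algebra.TensorProduct.includeRight.toRingHom) = q.asIdeal →
      FlatMor.localDim (PrimeSpectrum ((q.asIdeal.under R).Fiber S)) Q ≤ (n : WithBot ℕ∞)}

lemma exists_over (q : PrimeSpectrum S) :
    ∃ Q : PrimeSpectrum ((q.asIdeal.under R).Fiber S),
      Q.asIdeal.comap (Algebra.TensorProduct.includeRight.toRingHom) = q.asIdeal :=
  ⟨_, congr($((PrimeSpectrum.preimageEquivFiber R S
    ⟨q.asIdeal.under R, inferInstance⟩).symm_apply_apply ⟨q, rfl⟩).1.asIdeal)⟩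

/-- Chevalley: the set of points of fibre dimension at most `n` is open. -/
theorem isOpen_dimLeSet [Algebra.FiniteType R S] (n : ℕ) : IsOpen (dimLeSet R S n) := by
  rw [isOpen_iff_forall_mem_open]
  intro q hq
  obtain ⟨Q, hQ⟩ := exists_over R S q
  obtain ⟨g, hg, φ, -, hφ⟩ :=
    exists_quasiFinite_away R S (q.asIdeal.under R) q.asIdeal Q hQ n (hq Q hQ)
  refine ⟨(PrimeSpectrum.basicOpen g : Set (PrimeSpectrum S)), fun q' hq' Q' hQ' => ?_,
    (PrimeSpectrum.basicOpen g).2, hg⟩
  refine (localDim_le_of_away Q' _ fun h => hq' ?_).trans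
    (ringKrullDim_fibre_away_le R S n g φ hφ (q'.asIdeal.under R))
  rw [← hQ']
  exact h

end Chevalley

section BaseChange

/-- Fibre dimensions are unchanged by base change. -/
lemma dimLeSet_eq_preimage {R₀ S₀ R S : Type u} [CommRing R₀] [CommRing S₀] [Algebra R₀ S₀]
    [Algebra.FiniteType R₀ S₀] [CommRing R] [Algebra R₀ R] [CommRing S] [Algebra R S]
    (e : R ⊗[R₀] S₀ ≃ₐ[R] S) (n : ℕ) :
    dimLeSet R S n = PrimeSpectrum.comap
      (e.toRingEquiv.toRingHom.comp Algebra.TensorProduct.includeRight.toRingHom) ⁻¹'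
        dimLeSet R₀ S₀ n := by
  let j : S₀ →+* S := e.toRingEquiv.toRingHom.comp Algebra.TensorProduct.includeRight.toRingHom
  ext q
  have hp0 : ((PrimeSpectrum.comap j q).asIdeal.under R₀) =
      (q.asIdeal.under R).comap (algebraMap R₀ R) := by
    ext x
    show j (algebraMap R₀ S₀ x) ∈ q.asIdeal ↔ algebraMap R S (algebraMap R₀ R x) ∈ q.asIdeal
    rw [← e.commutes (algebraMap R₀ R x), ← IsScalarTower.algebraMap_apply R₀ R (R ⊗[R₀] S₀)]
    show e ((Algebra.TensorProduct.includeRight : S₀ →ₐ[R₀] R ⊗[R₀] S₀) (algebraMap R₀ S₀ x)) ∈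
      q.asIdeal ↔ _
    rw [AlgHom.commutes]
  set p := q.asIdeal.under R
  set p0 := (PrimeSpectrum.comap j q).asIdeal.under R₀
  letI : Algebra p0.ResidueField p.ResidueField :=
    (Ideal.ResidueField.mapₐ p0 p (Algebra.ofId R₀ R) hp0).toRingHom.toAlgebra
  haveI : IsScalarTower R₀ p0.ResidueField p.ResidueField :=
    IsScalarTower.of_algebraMap_eq fun x =>
      ((Ideal.ResidueField.mapₐ p0 p (Algebra.ofId R₀ R) hp0).commutes x).symm
  -- the two fibres differ by an extension of the base field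
  let E : p.Fiber S ≃+* p.ResidueField ⊗[p0.ResidueField] (p0.Fiber S₀) :=
    ((Algebra.TensorProduct.congr (AlgEquiv.refl : p.ResidueField ≃ₐ[p.ResidueField] p.ResidueField) e.symm).toRingEquiv.trans
      (Algebra.TensorProduct.cancelBaseChange R₀ R p.ResidueField p.ResidueField S₀).toRingEquiv).trans
      (Algebra.TensorProduct.cancelBaseChange R₀ p0.ResidueField p.ResidueField p.ResidueField S₀).symm.toRingEquiv
  have hE : ∀ s0 : S₀, E ((1 : p.ResidueField) ⊗ₜ[R] j s0) =
      (1 : p.ResidueField) ⊗ₜ[p0.ResidueField] ((1 : p0.ResidueField) ⊗ₜ[R₀] s0) := fun s0 => by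
    show (Algebra.TensorProduct.cancelBaseChange R₀ p0.ResidueField p.ResidueField p.ResidueField S₀).symm
      (Algebra.TensorProduct.cancelBaseChange R₀ R p.ResidueField p.ResidueField S₀
        ((1 : p.ResidueField) ⊗ₜ[R] e.symm (e ((1 : R) ⊗ₜ[R₀] s0)))) = _
    rw [e.symm_apply_apply, Algebra.TensorProduct.cancelBaseChange_tmul, one_smul,
      Algebra.TensorProduct.cancelBaseChange_symm_tmul]
  have key : ∀ Q : PrimeSpectrum (p.Fiber S),
      Q.asIdeal.comap (Algebra.TensorProduct.includeRight.toRingHom) = q.asIdeal →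
      ∃ Q0 : PrimeSpectrum (p0.Fiber S₀),
        Q0.asIdeal.comap (Algebra.TensorProduct.includeRight.toRingHom) =
            (PrimeSpectrum.comap j q).asIdeal ∧
          FlatMor.localDim _ Q0 = FlatMor.localDim _ Q := by
    intro Q hQ
    let QK : PrimeSpectrum (p.ResidueField ⊗[p0.ResidueField] (p0.Fiber S₀)) := PrimeSpectrum.comap E.symm.toRingHom Q
    refine ⟨PrimeSpectrum.comap Algebra.TensorProduct.includeRight.toRingHom QK, ?_, ?_⟩
    · ext s0
      show E.symm ((1 : p.ResidueField) ⊗ₜ[p0.ResidueField] ((1 : p0.ResidueField) ⊗ₜ[R₀] s0)) ∈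
        Q.asIdeal ↔ j s0 ∈ q.asIdeal
      rw [← hE, E.symm_apply_apply]
      exact Ideal.ext_iff.1 hQ (j s0)
    · rw [← localDim_comap_equiv (A := p.ResidueField ⊗[p0.ResidueField] (p0.Fiber S₀)) (B := p.Fiber S) E.symm Q]
      exact (CAlgLib.LocalDimSpec.localDim_baseChange p0.ResidueField p.ResidueField QK.asIdeal _
        rfl).symm
  constructor
  · intro h Q0 hQ0
    obtain ⟨Q, hQ⟩ := exists_over R S q
    obtain ⟨Q0', hQ0', hd⟩ := key Q hQ
    have : Q0 = Q0' := (PrimeSpectrum.preimageEquivFiber R₀ S₀ ⟨p0, inferInstance⟩).symm.injective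
      (Subtype.ext (PrimeSpectrum.ext (hQ0.trans hQ0'.symm)))
    rw [this, hd]
    exact h Q hQ
  · intro h Q hQ
    obtain ⟨Q0, hQ0, hd⟩ := key Q hQ
    rw [← hd]
    exact h Q0 hQ0

end BaseChange

/-- For finite presentation the open set is quasi-compact. -/
theorem isCompact_dimLeSet (R S : Type u) [CommRing R] [CommRing S] [Algebra R S]
    [Algebra.FinitePresentation R S] (n : ℕ) : IsCompact (dimLeSet R S n) := by
  classical
  let P := Algebra.Presentation.ofFinitePresentation R S
  haveI : IsNoetherianRing P.Core := Algebra.FiniteType.isNoetherianRing ℤ P.Core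
  let S₀ := P.ModelOfHasCoeffs P.Core
  haveI : IsNoetherianRing S₀ := Algebra.FiniteType.isNoetherianRing P.Core S₀
  rw [dimLeSet_eq_preimage (P.tensorModelOfHasCoeffsEquiv P.Core) n]
  have hc : IsCompact (dimLeSet P.Core S₀ n) := TopologicalSpace.NoetherianSpace.isCompact _
  have hcov : ∀ x ∈ dimLeSet P.Core S₀ n, ∃ f : S₀, x ∈ PrimeSpectrum.basicOpen f ∧
      (PrimeSpectrum.basicOpen f : Set (PrimeSpectrum S₀)) ⊆ dimLeSet P.Core S₀ n := fun x hx => by
    obtain ⟨_, ⟨f, rfl⟩, hxf, hsub⟩ :=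
      PrimeSpectrum.isTopologicalBasis_basic_opens.exists_subset_of_mem_open hx
        (isOpen_dimLeSet P.Core S₀ n)
    exact ⟨f, hxf, hsub⟩
  choose! f hf hsub using hcov
  obtain ⟨t, ht⟩ := hc.elim_finite_subcover (fun x : dimLeSet P.Core S₀ n =>
    (PrimeSpectrum.basicOpen (f x.1) : Set (PrimeSpectrum S₀))) (fun x => (PrimeSpectrum.basicOpen _).2)
    (fun x hx => Set.mem_iUnion.2 ⟨⟨x, hx⟩, hf x hx⟩)
  have heq : dimLeSet P.Core S₀ n =
      ⋃ x ∈ t, (PrimeSpectrum.basicOpen (f x.1) : Set (PrimeSpectrum S₀)) :=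
    subset_antisymm ht (Set.iUnion₂_subset fun x _ => hsub x.1 x.2)
  rw [heq, Set.preimage_iUnion₂]
  exact t.isCompact_biUnion fun x _ => PrimeSpectrum.isCompact_basicOpen _

end Groth.Agent.RelDim
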