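import Groth.Agent.RelDim.CMFibre
import Groth.Agent.S6277
import Groth.Prelude.Def_FlatCA

/-!
# Local rings of fibres under localisation
-/

set_option autoImplicit false
set_option linter.style.haveILetI false

universe u

open TensorProduct

namespace Groth.Agent.RelDim

section Psi

variable {R S : Type u} [CommRing R] [CommRing S] [Algebra R S]

lemma map_fibre_eq (p : Ideal R) (q : Ideal S) [q.IsPrime] [q.LiesOver p] :
    (q.comap (algebraMap R S)).map (algebraMap R (Localization.AtPrime q)) =
      (p.map (algebraMap R S)).map (algebraMap S (Localization.AtPrime q)) := by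
  rw [Ideal.map_map, ← IsScalarTower.algebraMap_eq,
    show q.comap (algebraMap R S) = p from (q.over_def p).symm]

variable [Algebra.FiniteType R S]

/-- The canonical map from `S_q` to the local ring of the fibre is surjective with kernel
`p S_q`. -/
lemma exists_localRingHom_fibre (p : Ideal R) [p.IsPrime] (q : Ideal S) [q.IsPrime]
    (Q : Ideal (p.Fiber S)) [Q.IsPrime]
    (hQ : Q.comap Algebra.TensorProduct.includeRight.toRingHom = q) :
    ∃ ψ : Localization.AtPrime q →+* Localization.AtPrime Q, Function.Surjective ψ ∧
      RingHom.ker ψ = (p.map (algebraMap R S)).map (algebraMap S (Localization.AtPrime q)) ∧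
      ∀ s : S, ψ (algebraMap S _ s) =
        algebraMap (p.Fiber S) _ ((1 : p.ResidueField) ⊗ₜ[R] s) := by
  subst hQ
  let i : S →+* p.Fiber S := Algebra.TensorProduct.includeRight.toRingHom
  let ψ := Localization.localRingHom (Q.comap i) Q i rfl
  have hsurj : Function.Surjective ψ :=
    RingHom.SurjectiveOnStalks.baseChange' (Ideal.surjectiveOnStalks_residueField p) Q inferInstance
  let K := (p.map (algebraMap R S)).map (algebraMap S (Localization.AtPrime (Q.comap i)))
  have hK : K ≤ RingHom.ker ψ := by
    refine Ideal.map_le_iff_le_comap.2 (Ideal.map_le_iff_le_comap.2 fun c hc => ?_)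
    rw [Ideal.mem_comap, Ideal.mem_comap, RingHom.mem_ker, Localization.localRingHom_to_map]
    show algebraMap (p.Fiber S) _ ((Algebra.TensorProduct.includeRight : S →ₐ[R] p.Fiber S)
      (algebraMap R S c)) = 0
    rw [AlgHom.commutes, IsScalarTower.algebraMap_apply R p.ResidueField (p.Fiber S),
      Ideal.algebraMap_residueField_eq_zero.2 hc, map_zero, map_zero]
  refine ⟨ψ, hsurj, le_antisymm ?_ hK, fun s => Localization.localRingHom_to_map _ _ _ rfl s⟩
  haveI : IsNoetherianRing (p.Fiber S) := Algebra.FiniteType.isNoetherianRing p.ResidueField _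
  haveI : IsNoetherianRing (Localization.AtPrime Q) :=
    IsLocalization.isNoetherianRing Q.primeCompl _ inferInstance
  obtain ⟨e⟩ := exists_localizationEquiv p (Q.comap i) Q rfl
  let g : Localization.AtPrime Q →+* Localization.AtPrime Q :=
    (Ideal.Quotient.lift K ψ hK).comp e.toRingHom
  have hg : Function.Surjective g :=
    (Ideal.Quotient.lift_surjective_of_surjective K hK hsurj).comp e.surjective
  have hinj := (S6277.result (R := Localization.AtPrime Q) g hg).1
  intro x hx
  have h1 : e.symm (Ideal.Quotient.mk K x) = 0 := hinj (by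
    show Ideal.Quotient.lift K ψ hK (e (e.symm (Ideal.Quotient.mk K x))) = _
    rw [e.apply_symm_apply]
    exact hx.trans (map_zero _).symm)
  have h2 := congrArg e h1
  rw [e.apply_symm_apply, map_zero] at h2
  exact Ideal.Quotient.eq_zero_iff_mem.1 h2

/-- The local ring of the fibre, as the local ring of the fibre ring. -/
lemma nonempty_equiv_fibLocRing (p : Ideal R) [p.IsPrime] (q : Ideal S) [q.IsPrime] [q.LiesOver p]
    (Q : Ideal (p.Fiber S)) [Q.IsPrime]
    (hQ : Q.comap Algebra.TensorProduct.includeRight.toRingHom = q) :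
    Nonempty (EGA4.FibLocRing R S q ≃+* Localization.AtPrime Q) := by
  obtain ⟨ψ, hs, hk, -⟩ := exists_localRingHom_fibre p q Q hQ
  exact ⟨(Ideal.quotEquivOfEq ((map_fibre_eq p q).trans hk.symm)).trans
    (RingHom.quotientKerEquivOfSurjective hs)⟩

omit [Algebra.FiniteType R S] in
/-- Every point has a point of the fibre over it. -/
lemma exists_over' (p : Ideal R) [p.IsPrime] (q : Ideal S) [q.IsPrime] [q.LiesOver p] :
    ∃ Q : PrimeSpectrum (p.Fiber S),
      Q.asIdeal.comap Algebra.TensorProduct.includeRight.toRingHom = q :=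
  ⟨_, congr($((PrimeSpectrum.preimageEquivFiber R S ⟨p, inferInstance⟩).symm_apply_apply
    ⟨⟨q, inferInstance⟩, PrimeSpectrum.ext (q.over_def p).symm⟩).1.asIdeal)⟩

/-- The local dimension of a fibre is `dim (S_q / p S_q) + trdeg`. -/
lemma localDim_eq_fibLocRing (p : Ideal R) [p.IsPrime] (q : Ideal S) [q.IsPrime] [q.LiesOver p]
    [Algebra p.ResidueField q.ResidueField] [IsScalarTower R p.ResidueField q.ResidueField]
    (Q : PrimeSpectrum (p.Fiber S))
    (hQ : Q.asIdeal.comap Algebra.TensorProduct.includeRight.toRingHom = q) (r : ℕ)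
    (hr : Algebra.trdeg p.ResidueField q.ResidueField = r) :
    FlatMor.localDim (PrimeSpectrum (p.Fiber S)) Q =
      ringKrullDim (EGA4.FibLocRing R S q) + (r : WithBot ℕ∞) := by
  obtain ⟨eK, heK⟩ := exists_residueFieldEquiv p q Q.asIdeal hQ.symm
  obtain ⟨eL⟩ := nonempty_equiv_fibLocRing p q Q.asIdeal hQ
  rw [ringKrullDim_eq_of_ringEquiv eL]
  exact localDim_eq_of_equiv Q.asIdeal eK heK r hr

end Psi

section Away

variable {R S : Type u} [CommRing R] [CommRing S] [Algebra R S]

/-- Localisation does not change the local rings: flatness over the base and local rings of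
fibres. -/
lemma flat_iff_and_fibLocRing_of_isLocalization {C : Type u} [CommRing C] [Algebra R C] [Algebra S C]
    [IsScalarTower R S C] (M : Submonoid S) [IsLocalization M C] (q : Ideal S) [q.IsPrime]
    (q' : Ideal C) [q'.IsPrime] (hq : q'.comap (algebraMap S C) = q) :
    (Module.Flat R (Localization.AtPrime q) ↔ Module.Flat R (Localization.AtPrime q')) ∧
      Nonempty (EGA4.FibLocRing R S q ≃+* EGA4.FibLocRing R C q') := by
  subst hq
  haveI := IsLocalization.isLocalization_isLocalization_atPrime_isLocalization M
    (Localization.AtPrime q') q'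
  let e : Localization.AtPrime (q'.comap (algebraMap S C)) ≃ₐ[R] Localization.AtPrime q' :=
    (IsLocalization.algEquiv (q'.comap (algebraMap S C)).primeCompl _ _).restrictScalars R
  refine ⟨⟨fun _ => Module.Flat.of_linearEquiv e.symm.toLinearEquiv,
    fun _ => Module.Flat.of_linearEquiv e.toLinearEquiv⟩, ⟨Ideal.quotientEquiv _ _ e.toRingEquiv ?_⟩⟩
  rw [Ideal.comap_comap, ← IsScalarTower.algebraMap_eq, Ideal.map_map]
  exact congrArg (Ideal.map · (q'.comap (algebraMap R C)))
    (RingHom.ext fun x => (e.commutes x).symm)

/-- Localisation does not change the local dimension of fibres. -/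
lemma localDim_eq_of_isLocalization [Algebra.FiniteType R S] {C : Type u} [CommRing C] [Algebra R C]
    [Algebra S C] [IsScalarTower R S C] [Algebra.FiniteType R C] (M : Submonoid S)
    [IsLocalization M C] (p : Ideal R) [p.IsPrime] (q : Ideal S) [q.IsPrime] [q.LiesOver p]
    (q' : Ideal C) [q'.IsPrime] [q'.LiesOver p] (hq : q'.comap (algebraMap S C) = q)
    (Q : PrimeSpectrum (p.Fiber S))
    (hQ : Q.asIdeal.comap Algebra.TensorProduct.includeRight.toRingHom = q)
    (Q' : PrimeSpectrum (p.Fiber C))
    (hQ' : Q'.asIdeal.comap Algebra.TensorProduct.includeRight.toRingHom = q') :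
    FlatMor.localDim (PrimeSpectrum (p.Fiber S)) Q =
      FlatMor.localDim (PrimeSpectrum (p.Fiber C)) Q' := by
  letI : Algebra p.ResidueField q.ResidueField :=
    (Ideal.ResidueField.mapₐ p q (Algebra.ofId R S) (q.over_def p)).toRingHom.toAlgebra
  haveI : IsScalarTower R p.ResidueField q.ResidueField := IsScalarTower.of_algebraMap_eq fun x =>
    ((Ideal.ResidueField.mapₐ p q (Algebra.ofId R S) (q.over_def p)).commutes x).symm
  letI : Algebra p.ResidueField q'.ResidueField :=
    (Ideal.ResidueField.mapₐ p q' (Algebra.ofId R C) (q'.over_def p)).toRingHom.toAlgebra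
  haveI : IsScalarTower R p.ResidueField q'.ResidueField := IsScalarTower.of_algebraMap_eq fun x =>
    ((Ideal.ResidueField.mapₐ p q' (Algebra.ofId R C) (q'.over_def p)).commutes x).symm
  obtain ⟨r, hr⟩ := exists_trdeg_eq p q
  have hr' : Algebra.trdeg p.ResidueField q'.ResidueField = r := by
    rw [← hr]
    let m := Ideal.ResidueField.map q q' (algebraMap S C) hq.symm
    have hm : m.comp (algebraMap p.ResidueField q.ResidueField) =
        algebraMap p.ResidueField q'.ResidueField := by
      refine Ideal.ResidueField.ringHom_ext (RingHom.ext fun c => ?_)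
      show m (algebraMap p.ResidueField q.ResidueField (algebraMap R p.ResidueField c)) =
        algebraMap p.ResidueField q'.ResidueField (algebraMap R p.ResidueField c)
      rw [← IsScalarTower.algebraMap_apply R p.ResidueField q.ResidueField,
        ← IsScalarTower.algebraMap_apply R p.ResidueField q'.ResidueField,
        IsScalarTower.algebraMap_apply R S q.ResidueField, Ideal.ResidueField.map_algebraMap,
        IsScalarTower.algebraMap_apply R C q'.ResidueField, IsScalarTower.algebraMap_apply R S C]
    exact (AlgEquiv.ofRingEquiv (f := RingEquiv.ofBijective m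
      ((RingHom.surjectiveOnStalks_of_isLocalization M C).residueFieldMap_bijective q q' hq.symm))
        fun c => DFunLike.congr_fun hm c).trdeg_eq.symm
  rw [localDim_eq_fibLocRing p q Q hQ r hr, localDim_eq_fibLocRing p q' Q' hQ' r hr']
  obtain ⟨-, ⟨e⟩⟩ := flat_iff_and_fibLocRing_of_isLocalization (R := R) M q q' hq
  rw [ringKrullDim_eq_of_ringEquiv e]

end Away

end Groth.Agent.RelDim
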