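import Groth.Agent.RelDim.CMAt

/-!
# The Cohen–Macaulay locus of a morphism of finite presentation
-/

set_option autoImplicit false
set_option linter.style.haveILetI false

universe u

open TensorProduct

namespace Groth.Agent.RelDim

section Locus

variable (R S : Type u) [CommRing R] [CommRing S] [Algebra R S]

/-- `R → S` is flat at `q` with Cohen–Macaulay fibre at `q`. -/
def IsCMPoint (q : PrimeSpectrum S) : Prop :=
  Module.Flat R (Localization.AtPrime q.asIdeal) ∧
    LocCoh.IsCohenMacaulayLocalRing (EGA4.FibLocRing R S q.asIdeal)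

/-- The fibre through `q` has local dimension `n` at `q`. -/
def HasFibDim (q : PrimeSpectrum S) (n : ℕ) : Prop :=
  ∀ Q : PrimeSpectrum ((q.asIdeal.under R).Fiber S),
    Q.asIdeal.comap Algebra.TensorProduct.includeRight.toRingHom = q.asIdeal →
      FlatMor.localDim (PrimeSpectrum ((q.asIdeal.under R).Fiber S)) Q = (n : WithBot ℕ∞)

variable {R S}

/-- The fibre dimension at a point is a natural number. -/
lemma exists_hasFibDim [Algebra.FiniteType R S] (q : PrimeSpectrum S) :
    ∃ n, HasFibDim R S q n := by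
  let p := q.asIdeal.under R
  letI : Algebra p.ResidueField q.asIdeal.ResidueField :=
    (Ideal.ResidueField.mapₐ p q.asIdeal (Algebra.ofId R S) (q.asIdeal.over_def p)).toRingHom.toAlgebra
  haveI : IsScalarTower R p.ResidueField q.asIdeal.ResidueField :=
    IsScalarTower.of_algebraMap_eq fun x =>
      ((Ideal.ResidueField.mapₐ p q.asIdeal (Algebra.ofId R S) (q.asIdeal.over_def p)).commutes x).symm
  obtain ⟨r, hr⟩ := exists_trdeg_eq p q.asIdeal
  obtain ⟨Q, hQ⟩ := exists_over' p q.asIdeal
  obtain ⟨e⟩ := nonempty_equiv_fibLocRing p q.asIdeal Q.asIdeal hQ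
  haveI : IsNoetherianRing (p.Fiber S) := Algebra.FiniteType.isNoetherianRing p.ResidueField _
  obtain ⟨d, hd⟩ := ENat.ne_top_iff_exists.1 (Ideal.height_ne_top_of_isPrime (I := Q.asIdeal))
  refine ⟨d + r, fun Q' hQ' => ?_⟩
  rw [localDim_eq_fibLocRing p q.asIdeal Q' hQ' r hr, ringKrullDim_eq_of_ringEquiv e,
    IsLocalization.AtPrime.ringKrullDim_eq_height Q.asIdeal (Localization.AtPrime Q.asIdeal), ← hd]
  norm_cast

/-- EGA IV 12.1 / 15.4: near a Cohen–Macaulay point of relative dimension `n`, `S_g` is quasi-finite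
over `R[t_1, …, t_n]` and flat over it at the point. -/
theorem exists_away_flat_quasiFinite [Algebra.FinitePresentation R S] (q : PrimeSpectrum S)
    (h : IsCMPoint R S q) (n : ℕ) (hn : HasFibDim R S q n) :
    ∃ g : S, g ∉ q.asIdeal ∧
      ∃ φ : MvPolynomial (Fin n) R →ₐ[R] Localization.Away g, φ.toRingHom.QuasiFinite ∧
        ∀ q₁ : PrimeSpectrum (Localization.Away g),
          q₁.asIdeal.comap (algebraMap S (Localization.Away g)) = q.asIdeal →
          letI := φ.toRingHom.toAlgebra
          Module.Flat (MvPolynomial (Fin n) R) (Localization.AtPrime q₁.asIdeal) := by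
  obtain ⟨Q, hQ⟩ := exists_over' (q.asIdeal.under R) q.asIdeal
  obtain ⟨g, hg, φ, -, hφ⟩ :=
    exists_quasiFinite_away R S (q.asIdeal.under R) q.asIdeal Q hQ n (hn Q hQ).le
  refine ⟨g, hg, φ, hφ, fun q₁ hq₁ => ?_⟩
  letI : Algebra (MvPolynomial (Fin n) R) (Localization.Away g) := φ.toRingHom.toAlgebra
  haveI : IsScalarTower R (MvPolynomial (Fin n) R) (Localization.Away g) :=
    IsScalarTower.of_algebraMap_eq fun x => (φ.commutes x).symm
  haveI : Algebra.QuasiFinite (MvPolynomial (Fin n) R) (Localization.Away g) := hφ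
  haveI : Algebra.FinitePresentation S (Localization.Away g) :=
    IsLocalization.Away.finitePresentation g
  haveI : Algebra.FinitePresentation R (Localization.Away g) :=
    Algebra.FinitePresentation.trans R S _
  haveI : q₁.asIdeal.LiesOver (q.asIdeal.under R) := ⟨by
    show q.asIdeal.comap (algebraMap R S) = q₁.asIdeal.comap (algebraMap R (Localization.Away g))
    rw [IsScalarTower.algebraMap_eq R S (Localization.Away g), ← Ideal.comap_comap, hq₁]⟩
  obtain ⟨hfl, ⟨e⟩⟩ := flat_iff_and_fibLocRing_of_isLocalization (R := R) (Submonoid.powers g)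
    q.asIdeal q₁.asIdeal hq₁
  obtain ⟨Q', hQ'⟩ := exists_over' (q.asIdeal.under R) q₁.asIdeal
  haveI := h.2
  refine flat_of_cm_quasiFinite R (Localization.Away g) (q.asIdeal.under R) q₁.asIdeal (hfl.1 h.1)
    (isCohenMacaulayLocalRing_ringEquiv e) Q' hQ' ?_
  rw [← localDim_eq_of_isLocalization (Submonoid.powers g) (q.asIdeal.under R) q.asIdeal q₁.asIdeal
    hq₁ Q hQ Q' hQ']
  exact hn Q hQ

/-- Around a Cohen–Macaulay point all points are Cohen–Macaulay of the same fibre dimension. -/
theorem exists_nhds_isCMPoint [Algebra.FinitePresentation R S] (q : PrimeSpectrum S)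
    (h : IsCMPoint R S q) (n : ℕ) (hn : HasFibDim R S q n) :
    ∃ U : Set (PrimeSpectrum S), IsOpen U ∧ q ∈ U ∧
      ∀ q' ∈ U, IsCMPoint R S q' ∧ HasFibDim R S q' n := by
  obtain ⟨g, hg, φ, hφ, hflat⟩ := exists_away_flat_quasiFinite q h n hn
  let A := MvPolynomial (Fin n) R
  let C := Localization.Away g
  letI : Algebra A C := φ.toRingHom.toAlgebra
  haveI : IsScalarTower R A C := IsScalarTower.of_algebraMap_eq fun x => (φ.commutes x).symm
  haveI : Algebra.QuasiFinite A C := hφ
  haveI : Algebra.FinitePresentation S C := IsLocalization.Away.finitePresentation g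
  haveI : Algebra.FinitePresentation R C := Algebra.FinitePresentation.trans R S _
  haveI : Algebra.FinitePresentation A C :=
    Algebra.FinitePresentation.of_restrict_scalars_finitePresentation R A C
  have hemb := PrimeSpectrum.localization_away_isOpenEmbedding C g
  refine ⟨PrimeSpectrum.comap (algebraMap S C) '' {q₁ | FlatCA.FlatAt A q₁.asIdeal C},
    hemb.isOpenMap _ (FlatOpen.isOpen_flatLocus A C C), ?_, ?_⟩
  · obtain ⟨q₁, hq₁⟩ := (PrimeSpectrum.localization_away_comap_range C g).ge hg
    refine ⟨q₁, ?_, hq₁⟩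
    haveI : Module.Flat A (Localization.AtPrime q₁.asIdeal) :=
      hflat q₁ (congrArg PrimeSpectrum.asIdeal hq₁)
    exact Module.Flat.of_linearEquiv
      ((Depth.localizedModuleSelfEquiv q₁.asIdeal.primeCompl).restrictScalars A)
  · rintro _ ⟨q₁, hq₁, rfl⟩
    haveI : Module.Flat A (LocalizedModule q₁.asIdeal.primeCompl C) := hq₁
    have hA : Module.Flat A (Localization.AtPrime q₁.asIdeal) :=
      Module.Flat.of_linearEquiv
        ((Depth.localizedModuleSelfEquiv q₁.asIdeal.primeCompl).restrictScalars A).symm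
    let q₀ := PrimeSpectrum.comap (algebraMap S C) q₁
    haveI : q₁.asIdeal.LiesOver (q₀.asIdeal.under R) := ⟨by
      show (q₁.asIdeal.comap (algebraMap S C)).comap (algebraMap R S) =
        q₁.asIdeal.comap (algebraMap R C)
      rw [Ideal.comap_comap, ← IsScalarTower.algebraMap_eq]⟩
    obtain ⟨hR, hcm, hd⟩ := cm_of_flat_quasiFinite R C (q₀.asIdeal.under R) q₁.asIdeal hA
    obtain ⟨hfl, ⟨e⟩⟩ := flat_iff_and_fibLocRing_of_isLocalization (R := R) (Submonoid.powers g)
      q₀.asIdeal q₁.asIdeal rfl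
    haveI := hcm
    refine ⟨⟨hfl.2 hR, isCohenMacaulayLocalRing_ringEquiv e.symm⟩, fun Q₀ hQ₀ => ?_⟩
    obtain ⟨Q', hQ'⟩ := exists_over' (q₀.asIdeal.under R) q₁.asIdeal
    rw [localDim_eq_of_isLocalization (Submonoid.powers g) (q₀.asIdeal.under R) q₀.asIdeal q₁.asIdeal
      rfl Q₀ hQ₀ Q' hQ']
    exact hd Q' hQ'

/-- EGA IV 12.1.1 (iv) for rings: the Cohen–Macaulay locus is open. -/
theorem isOpen_setOf_isCMPoint [Algebra.FinitePresentation R S] :
    IsOpen {q : PrimeSpectrum S | IsCMPoint R S q} := by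
  rw [isOpen_iff_forall_mem_open]
  intro q hq
  obtain ⟨n, hn⟩ := exists_hasFibDim (R := R) q
  obtain ⟨U, hU, hqU, h⟩ := exists_nhds_isCMPoint q hq n hn
  exact ⟨U, fun x hx => (h x hx).1, hU, hqU⟩

/-- The Cohen–Macaulay points of fibre dimension `n` form an open set. -/
theorem isOpen_setOf_isCMPoint_hasFibDim [Algebra.FinitePresentation R S] (n : ℕ) :
    IsOpen {q : PrimeSpectrum S | IsCMPoint R S q ∧ HasFibDim R S q n} := by
  rw [isOpen_iff_forall_mem_open]
  rintro q ⟨hq, hn⟩
  obtain ⟨U, hU, hqU, h⟩ := exists_nhds_isCMPoint q hq n hn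
  exact ⟨U, h, hU, hqU⟩

end Locus

end Groth.Agent.RelDim
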