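import Groth.Agent.RelDim.DimLe
import Mathlib.RingTheory.ZariskisMainTheorem

/-!
# Quasi-finite maps to affine space near a point of given relative dimension
-/

set_option autoImplicit false
set_option linter.style.haveILetI false

universe u

open TensorProduct

namespace Groth.Agent.RelDim

section Open

/-- Quasi-finiteness at a point spreads out to a basic neighbourhood. -/
lemma exists_notMem_quasiFinite_away {R S : Type u} [CommRing R] [CommRing S] [Algebra R S]
    [Algebra.FiniteType R S] (q : Ideal S) [q.IsPrime] [Algebra.QuasiFiniteAt R q] :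
    ∃ r ∉ q, Algebra.QuasiFinite R (Localization.Away r) := by
  obtain ⟨S', hS', r, hrp, H⟩ :=
    Algebra.QuasiFiniteAt.exists_fg_and_exists_notMem_and_awayMap_bijective (R := R) q
  have : Module.Finite R S' := ⟨(Submodule.fg_top _).mpr hS'⟩
  have : Algebra.QuasiFinite R (Localization.Away r) := .trans _ S' _
  exact ⟨r.1, hrp, .of_surjective_algHom (Localization.awayMapₐ S'.val r) H.2⟩

end Open

section Generic

variable {S' T' A : Type u} [CommRing S'] [CommRing A]
  [Algebra A S'] [CommRing T']

/-- A prime `q` of `S'` over `p` is quasi-finite over `A = R[x]` as soon as some ring `T'` between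
`κ(p) ⊗ S'` and the fibre over `q ∩ A` is finite over `κ(p)[x]`. -/
lemma quasiFiniteAt_of_fiber_finite [Algebra.FiniteType A S'] (q : Ideal S') [q.IsPrime]
    (P : Ideal A) [P.IsPrime] [q.LiesOver P]
    {C : Type u} [CommRing C] (h : C →+* T') (hfin : h.Finite)
    (ψ : T' →+* P.Fiber S') (χ : C →+* P.ResidueField)
    (hψh : ψ.comp h = (algebraMap P.ResidueField (P.Fiber S')).comp χ)
    (hψ : ∀ s : S', ∃ x : T', ψ x = (1 : P.ResidueField) ⊗ₜ[A] s) :
    Algebra.QuasiFiniteAt A q := by
  algebraize [h]
  haveI : Module.Finite C T' := hfin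
  obtain ⟨m, a, ha⟩ := Module.Finite.exists_fin (R := C) (M := T')
  haveI : Module.Finite P.ResidueField (P.Fiber S') := by
    refine ⟨Submodule.fg_def.2 ⟨Set.range (ψ ∘ a), Set.finite_range _, top_le_iff.1 fun y _ => ?_⟩⟩
    induction y using TensorProduct.induction_on with
    | zero => exact zero_mem _
    | add y z hy hz => exact add_mem (hy trivial) (hz trivial)
    | tmul c s =>
      rw [show c ⊗ₜ[A] s = c • ((1 : P.ResidueField) ⊗ₜ[A] s) by
        rw [TensorProduct.smul_tmul', smul_eq_mul, mul_one]]
      refine Submodule.smul_mem _ _ ?_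
      obtain ⟨x, hx⟩ := hψ s
      rw [← hx]
      have hmem : x ∈ Submodule.span C (Set.range a) := by rw [ha]; trivial
      clear hx
      induction hmem using Submodule.span_induction with
      | mem x hx =>
        obtain ⟨j, rfl⟩ := hx
        exact Submodule.subset_span ⟨j, rfl⟩
      | zero => rw [map_zero]; exact zero_mem _
      | add x z _ _ hx hz => rw [map_add]; exact add_mem hx hz
      | smul c' x _ hx =>
        have hc : ψ (c' • x) = χ c' • ψ x := by
          rw [Algebra.smul_def, map_mul, Algebra.smul_def]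
          exact congrArg (· * ψ x) (DFunLike.congr_fun hψh c')
        rw [hc]
        exact Submodule.smul_mem _ _ hx
  let Q := PrimeSpectrum.preimageEquivFiber A S' ⟨P, inferInstance⟩
    ⟨⟨q, inferInstance⟩, PrimeSpectrum.ext (q.over_def P).symm⟩
  haveI : Algebra.QuasiFiniteAt P.ResidueField Q.asIdeal := inferInstance
  refine Algebra.QuasiFiniteAt.of_quasiFiniteAt_residueField P q Q.asIdeal ?_
  exact congr($((PrimeSpectrum.preimageEquivFiber A S' ⟨P, inferInstance⟩).symm_apply_apply
    ⟨⟨q, inferInstance⟩, PrimeSpectrum.ext (q.over_def P).symm⟩).1.asIdeal)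

end Generic

section Main

open scoped Pointwise

/-- If the fibre of `R → S` over `p` has local dimension at most `n` at `q`, then some `S_g`,
`g ∉ q`, is quasi-finite over `R[t_1, …, t_n]`. -/
theorem exists_quasiFinite_away (R S : Type u) [CommRing R] [CommRing S] [Algebra R S]
    [Algebra.FiniteType R S] (p : Ideal R) [p.IsPrime] (q : Ideal S) [q.IsPrime] [q.LiesOver p]
    (Q : PrimeSpectrum (p.Fiber S))
    (hQ : Q.asIdeal.comap (Algebra.TensorProduct.includeRight.toRingHom) = q) (n : ℕ)
    (hdim : FlatMor.localDim (PrimeSpectrum (p.Fiber S)) Q ≤ (n : WithBot ℕ∞)) :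
    ∃ g : S, g ∉ q ∧ ∃ φ : MvPolynomial (Fin n) R →ₐ[R] Localization.Away g,
      φ.toRingHom.FiniteType ∧ φ.toRingHom.QuasiFinite := by
  classical
  let F := p.Fiber S
  have hunit : ∀ r : R, r ∉ p → IsUnit (algebraMap R F r) := fun r hr => by
    rw [IsScalarTower.algebraMap_apply R p.ResidueField F]
    refine (IsUnit.mk0 _ ?_).map _
    rwa [Ne, Ideal.algebraMap_residueField_eq_zero]
  obtain ⟨f, hfQ, hfdim⟩ := exists_notMem_forall_away_le p.ResidueField Q.asIdeal hdim
  obtain ⟨r0, hr0, g0, hg0⟩ := Ideal.Fiber.exists_smul_eq_one_tmul p f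
  let f' : F := (1 : p.ResidueField) ⊗ₜ[R] g0
  have hf'eq : f' = algebraMap R F r0 * f := hg0.symm.trans (Algebra.smul_def r0 f)
  have hf'Q : f' ∉ Q.asIdeal := by
    rw [hf'eq, Ideal.unit_mul_mem_iff_mem _ (hunit r0 hr0)]
    exact hfQ
  have hg0q : g0 ∉ q := fun h => hf'Q (by rw [← hQ] at h; exact h)
  let T := Localization.Away f'
  haveI : IsLocalization.Away (algebraMap R F r0 * f) T := by
    rw [← hf'eq]; infer_instance
  have hTdim : ringKrullDim T ≤ (n : WithBot ℕ∞) := hfdim (algebraMap R F r0) T
  haveI : Algebra.FiniteType p.ResidueField T :=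
    haveI : Algebra.FiniteType F T := IsLocalization.finiteType_of_monoid_fg (Submonoid.powers f') T
    Algebra.FiniteType.trans (S := F) inferInstance inferInstance
  haveI : Nontrivial T := by
    refine not_subsingleton_iff_nontrivial.1 fun hs => ?_
    obtain ⟨m, hm⟩ := (IsLocalization.subsingleton_iff (S := T) (M := Submonoid.powers f')).1 hs
    exact hf'Q (Q.2.mem_of_pow_mem m (by rw [show f' ^ m = 0 from hm]; exact Q.asIdeal.zero_mem))
  obtain ⟨t, ht⟩ := exists_aeval_finite (k := p.ResidueField) hTdim
  -- the localisation of `S`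
  let S' := Localization.Away g0
  let i : S →+* T := (algebraMap F T).comp Algebra.TensorProduct.includeRight.toRingHom
  have hi : IsUnit (i g0) := IsLocalization.Away.algebraMap_isUnit f'
  let j : S' →+* T := IsLocalization.Away.lift g0 hi
  have hscale : ∀ x : T, ∃ r ∉ p, ∃ s : S', j s = algebraMap R p.ResidueField r • x := fun x => by
    obtain ⟨m, a, ha⟩ := IsLocalization.Away.surj f' x
    obtain ⟨r, hr, s, hs⟩ := Ideal.Fiber.exists_smul_eq_one_tmul p a
    refine ⟨r, hr, algebraMap S S' s * IsLocalization.Away.invSelf g0 ^ m, ?_⟩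
    have hu : IsUnit (i g0 ^ m) := hi.pow m
    rw [← hu.mul_left_inj]
    have h1 : j (algebraMap S S' g0) = i g0 := IsLocalization.Away.lift_eq g0 hi g0
    have h2 : j (algebraMap S S' s) = i s := IsLocalization.Away.lift_eq g0 hi s
    rw [map_mul, map_pow, mul_assoc, ← mul_pow, ← h1, ← map_mul j, mul_comm (IsLocalization.Away.invSelf g0),
      IsLocalization.Away.mul_invSelf, map_one, one_pow, mul_one, h2, h1]
    show algebraMap F T ((1 : p.ResidueField) ⊗ₜ[R] s) = _
    rw [← hs, Algebra.smul_mul_assoc]
    show algebraMap F T (r • a) = _ • (x * algebraMap F T f' ^ m)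
    rw [ha, Algebra.smul_def, map_mul, Algebra.smul_def,
      IsScalarTower.algebraMap_apply R p.ResidueField F,
      ← IsScalarTower.algebraMap_apply p.ResidueField F T]
  choose r hr s hs using fun k => hscale (t k)
  have hfin : (MvPolynomial.aeval (R := p.ResidueField) (fun k => j (s k))).Finite :=
    aeval_finite_smul ht _ (fun k => (algebraMap R p.ResidueField (r k))⁻¹) fun k => by
      rw [hs k, smul_smul, inv_mul_cancel₀, one_smul]
      rw [Ne, Ideal.algebraMap_residueField_eq_zero]
      exact hr k
  -- the prime of `S'`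
  have hdisj : Disjoint (Submonoid.powers g0 : Set S) q := by
    rw [Set.disjoint_left]
    rintro _ ⟨m, rfl⟩ hm
    exact hg0q (Ideal.IsPrime.mem_of_pow_mem inferInstance m hm)
  let q' : Ideal S' := q.map (algebraMap S S')
  haveI : q'.IsPrime := IsLocalization.isPrime_of_isPrime_disjoint (Submonoid.powers g0) S' q ‹_› hdisj
  have hq' : q'.under S = q := IsLocalization.under_map_of_isPrime_disjoint (Submonoid.powers g0) S' ‹_› hdisj
  let φ0 : MvPolynomial (Fin n) R →ₐ[R] S' := MvPolynomial.aeval s
  letI : Algebra (MvPolynomial (Fin n) R) S' := φ0.toRingHom.toAlgebra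
  haveI : IsScalarTower R (MvPolynomial (Fin n) R) S' :=
    IsScalarTower.of_algebraMap_eq fun x => (φ0.commutes x).symm
  haveI : Algebra.FiniteType R S' :=
    haveI : Algebra.FiniteType S S' := IsLocalization.finiteType_of_monoid_fg (Submonoid.powers g0) S'
    Algebra.FiniteType.trans (S := S) inferInstance inferInstance
  haveI : Algebra.FiniteType (MvPolynomial (Fin n) R) S' :=
    Algebra.FiniteType.of_restrictScalars_finiteType R _ _
  let P : Ideal (MvPolynomial (Fin n) R) := q'.under (MvPolynomial (Fin n) R)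
  haveI hPp : P.LiesOver p := ⟨by
    rw [Ideal.under_under]
    rw [← Ideal.under_under (B := S), hq']
    exact q.over_def p⟩
  let resMap : p.ResidueField →ₐ[R] P.ResidueField :=
    Ideal.ResidueField.mapₐ p P (Algebra.ofId R (MvPolynomial (Fin n) R)) (P.over_def p)
  let ψF : F →ₐ[R] P.Fiber S' := Algebra.TensorProduct.lift
    ((IsScalarTower.toAlgHom R P.ResidueField (P.Fiber S')).comp resMap)
    (((Algebra.TensorProduct.includeRight :
      S' →ₐ[MvPolynomial (Fin n) R] P.Fiber S').restrictScalars R).comp (IsScalarTower.toAlgHom R S S'))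
    fun _ _ => Commute.all _ _
  have hψF : ∀ s0 : S, ψF ((1 : p.ResidueField) ⊗ₜ[R] s0) =
      (1 : P.ResidueField) ⊗ₜ[MvPolynomial (Fin n) R] algebraMap S S' s0 := fun s0 => by
    rw [Algebra.TensorProduct.lift_tmul, map_one, one_mul]
    rfl
  have hψu : IsUnit (ψF f') := by
    rw [hψF g0]
    exact (IsLocalization.Away.algebraMap_isUnit g0).map
      (Algebra.TensorProduct.includeRight : S' →ₐ[MvPolynomial (Fin n) R] P.Fiber S')
  let ψ : T →+* P.Fiber S' := IsLocalization.Away.lift f' (g := ψF.toRingHom) hψu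
  have hψj : ψ.comp j = (Algebra.TensorProduct.includeRight :
      S' →ₐ[MvPolynomial (Fin n) R] P.Fiber S').toRingHom := by
    refine IsLocalization.ringHom_ext (Submonoid.powers g0) (RingHom.ext fun s0 => ?_)
    show ψ (j (algebraMap S S' s0)) = _
    rw [show j (algebraMap S S' s0) = i s0 from IsLocalization.Away.lift_eq g0 hi s0]
    exact (IsLocalization.Away.lift_eq f' hψu _).trans (hψF s0)
  haveI : Algebra.QuasiFiniteAt (MvPolynomial (Fin n) R) q' := by
    refine quasiFiniteAt_of_fiber_finite q' P
      (MvPolynomial.aeval (R := p.ResidueField) (fun k => j (s k))).toRingHom hfin ψ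
      (MvPolynomial.eval₂Hom resMap.toRingHom fun k => algebraMap (MvPolynomial (Fin n) R) P.ResidueField (MvPolynomial.X k)) ?_
      (fun x => ⟨j x, DFunLike.congr_fun hψj x⟩)
    refine MvPolynomial.ringHom_ext (fun c => ?_) fun k => ?_
    · show ψ (MvPolynomial.aeval (fun k => j (s k)) (MvPolynomial.C c)) =
        algebraMap P.ResidueField (P.Fiber S')
          (MvPolynomial.eval₂Hom resMap.toRingHom _ (MvPolynomial.C c))
      rw [MvPolynomial.aeval_C, MvPolynomial.eval₂Hom_C,
        IsScalarTower.algebraMap_apply p.ResidueField F T]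
      refine (IsLocalization.Away.lift_eq f' hψu _).trans ?_
      show ψF (c ⊗ₜ[R] (1 : S)) = _
      rw [Algebra.TensorProduct.lift_tmul, map_one, mul_one]
      rfl
    · show ψ (MvPolynomial.aeval (fun k => j (s k)) (MvPolynomial.X k)) =
        algebraMap P.ResidueField (P.Fiber S')
          (MvPolynomial.eval₂Hom resMap.toRingHom _ (MvPolynomial.X k))
      rw [MvPolynomial.aeval_X, MvPolynomial.eval₂Hom_X']
      refine (DFunLike.congr_fun hψj (s k)).trans ?_
      rw [← IsScalarTower.algebraMap_apply (MvPolynomial (Fin n) R) P.ResidueField (P.Fiber S'),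
        ← (Algebra.TensorProduct.includeRight : S' →ₐ[MvPolynomial (Fin n) R] P.Fiber S').commutes,
        show algebraMap (MvPolynomial (Fin n) R) S' (MvPolynomial.X k) = s k from
          MvPolynomial.aeval_X s k]
      rfl
  obtain ⟨r1, hr1, hqf⟩ := exists_notMem_quasiFinite_away (R := MvPolynomial (Fin n) R) q'
  obtain ⟨m, a, ha⟩ := IsLocalization.Away.surj g0 r1
  have haq : a ∉ q := fun h => by
    have h' : algebraMap S S' a ∈ q' := Ideal.mem_map_of_mem _ h
    rw [← ha, Ideal.IsPrime.mul_mem_iff_mem_or_mem ‹q'.IsPrime›] at h'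
    exact h'.elim hr1 fun h'' => hg0q (hq' ▸ Ideal.mem_comap.2 (Ideal.IsPrime.mem_of_pow_mem inferInstance m h''))
  refine ⟨g0 * a, fun h => (Ideal.IsPrime.mem_or_mem inferInstance h).elim hg0q haq, ?_⟩
  haveI : IsLocalization.Away (algebraMap S S' a) (Localization.Away r1) :=
    IsLocalization.Away.of_associated ⟨((IsLocalization.Away.algebraMap_isUnit g0).pow m).unit, ha⟩
  haveI : IsLocalization.Away (g0 * a) (Localization.Away r1) :=
    IsLocalization.Away.mul' S' (Localization.Away r1) g0 a
  let e : Localization.Away r1 ≃ₐ[S] Localization.Away (g0 * a) :=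
    IsLocalization.algEquiv (Submonoid.powers (g0 * a)) _ _
  let φ : MvPolynomial (Fin n) R →ₐ[R] Localization.Away (g0 * a) :=
    ((e.restrictScalars R).toAlgHom.comp (IsScalarTower.toAlgHom R S' (Localization.Away r1))).comp φ0
  letI : Algebra (MvPolynomial (Fin n) R) (Localization.Away (g0 * a)) := φ.toRingHom.toAlgebra
  haveI : IsScalarTower R (MvPolynomial (Fin n) R) (Localization.Away (g0 * a)) :=
    IsScalarTower.of_algebraMap_eq fun x => (φ.commutes x).symm
  haveI : Algebra.FiniteType R (Localization.Away (g0 * a)) :=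
    haveI : Algebra.FiniteType S (Localization.Away (g0 * a)) :=
      IsLocalization.finiteType_of_monoid_fg (Submonoid.powers (g0 * a)) _
    Algebra.FiniteType.trans (S := S) inferInstance inferInstance
  refine ⟨φ, Algebra.FiniteType.of_restrictScalars_finiteType R _ _, ?_⟩
  exact (Algebra.QuasiFinite.iff_of_algEquiv (AlgEquiv.ofRingEquiv
    (f := e.toRingEquiv) fun x => rfl)).1 hqf

end Main

end Groth.Agent.RelDim
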