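import Groth.Agent.RelDim.Open
import Groth.Agent.S5795

/-!
# Quasi-finite maps to affine space with prescribed image of a point
-/

set_option autoImplicit false
set_option linter.style.haveILetI false

universe u

open TensorProduct

namespace Groth.Agent.RelDim

section Gen

/-- The local dimension formula, with the residue field given up to isomorphism. -/
lemma localDim_eq_of_equiv {k : Type u} [Field k] {F : Type u} [CommRing F] [Algebra k F]
    [Algebra.FiniteType k F] (Q : Ideal F) [Q.IsPrime] {K : Type u} [Field K] [Algebra k K]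
    (e : K ≃+* Q.ResidueField)
    (he : ∀ c, e (algebraMap k K c) = algebraMap F Q.ResidueField (algebraMap k F c))
    (r : ℕ) (hr : Algebra.trdeg k K = r) :
    FlatMor.localDim (PrimeSpectrum F) ⟨Q, inferInstance⟩ =
      ringKrullDim (Localization.AtPrime Q) + (r : WithBot ℕ∞) := by
  refine CAlgLib.LocalDimSpec.localDim_eq_add_trdeg k Q r ?_
  rw [← hr]
  exact (AlgEquiv.ofRingEquiv (f := e) fun c =>
    (he c).trans (IsScalarTower.algebraMap_apply k F Q.ResidueField c).symm).trdeg_eq.symm

end Gen

section Res

variable {R S : Type u} [CommRing R] [CommRing S] [Algebra R S]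

/-- The residue field of a point of the fibre is that of its image. -/
lemma exists_residueFieldEquiv (p : Ideal R) [p.IsPrime] (q : Ideal S) [q.IsPrime]
    [Algebra p.ResidueField q.ResidueField] [IsScalarTower R p.ResidueField q.ResidueField]
    (Q : Ideal (p.Fiber S)) [Q.IsPrime]
    (hQ : q = Q.comap Algebra.TensorProduct.includeRight.toRingHom) :
    ∃ e : q.ResidueField ≃+* Q.ResidueField, ∀ c, e (algebraMap p.ResidueField q.ResidueField c) =
      algebraMap (p.Fiber S) Q.ResidueField (algebraMap p.ResidueField (p.Fiber S) c) := by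
  let m : q.ResidueField →+* Q.ResidueField :=
    Ideal.ResidueField.map q Q Algebra.TensorProduct.includeRight.toRingHom hQ
  have hm : m.comp (algebraMap p.ResidueField q.ResidueField) =
      (algebraMap (p.Fiber S) Q.ResidueField).comp (algebraMap p.ResidueField (p.Fiber S)) := by
    refine Ideal.ResidueField.ringHom_ext (RingHom.ext fun r => ?_)
    show m (algebraMap p.ResidueField q.ResidueField (algebraMap R p.ResidueField r)) =
      algebraMap (p.Fiber S) Q.ResidueField
        (algebraMap p.ResidueField (p.Fiber S) (algebraMap R p.ResidueField r))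
    rw [← IsScalarTower.algebraMap_apply R p.ResidueField q.ResidueField,
      IsScalarTower.algebraMap_apply R S q.ResidueField, Ideal.ResidueField.map_algebraMap,
      ← IsScalarTower.algebraMap_apply R p.ResidueField (p.Fiber S)]
    exact congrArg _ ((Algebra.TensorProduct.includeRight : S →ₐ[R] p.Fiber S).commutes r)
  exact ⟨RingEquiv.ofBijective m ((RingHom.SurjectiveOnStalks.baseChange'
      (Ideal.surjectiveOnStalks_residueField p)).residueFieldMap_bijective q Q hQ),
    fun c => DFunLike.congr_fun hm c⟩

/-- The local ring of the fibre at a point is `S_q / p S_q`. -/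
lemma exists_localizationEquiv (p : Ideal R) [p.IsPrime] (q : Ideal S) [q.IsPrime]
    (Q : Ideal (p.Fiber S)) [Q.IsPrime]
    (hQ : Q.comap Algebra.TensorProduct.includeRight.toRingHom = q) :
    Nonempty (Localization.AtPrime Q ≃+* Localization.AtPrime q ⧸
      (p.map (algebraMap R S)).map (algebraMap S (Localization.AtPrime q))) := by
  subst hQ
  exact ⟨(Ideal.Fiber.algEquivAux₂ p Q).toRingEquiv⟩

/-- Quasi-finiteness from an algebraic residue extension and a zero-dimensional local fibre. -/
lemma quasiFiniteAt_of_isAlgebraic [Algebra.FiniteType R S] (p : Ideal R) [p.IsPrime] (q : Ideal S)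
    [q.IsPrime] [q.LiesOver p] [Algebra p.ResidueField q.ResidueField]
    [IsScalarTower R p.ResidueField q.ResidueField]
    (halg : Algebra.IsAlgebraic p.ResidueField q.ResidueField)
    (hrad : IsLocalRing.maximalIdeal (Localization.AtPrime q) ≤
      ((p.map (algebraMap R S)).map (algebraMap S (Localization.AtPrime q))).radical) :
    Algebra.QuasiFiniteAt R q := by
  obtain ⟨Q, hQ⟩ : ∃ Q : PrimeSpectrum (p.Fiber S),
      Q.asIdeal.comap Algebra.TensorProduct.includeRight.toRingHom = q :=
    ⟨_, congr($((PrimeSpectrum.preimageEquivFiber R S ⟨p, inferInstance⟩).symm_apply_apply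
      ⟨⟨q, inferInstance⟩, PrimeSpectrum.ext (q.over_def p).symm⟩).1.asIdeal)⟩
  obtain ⟨eL⟩ := exists_localizationEquiv p q Q.asIdeal hQ
  obtain ⟨eK, heK⟩ := exists_residueFieldEquiv p q Q.asIdeal hQ.symm
  let L := Localization.AtPrime q ⧸
    (p.map (algebraMap R S)).map (algebraMap S (Localization.AtPrime q))
  have h0 : Ring.KrullDimLE 0 L := Ring.krullDimLE_zero_iff.2 fun I hI => by
    have h1 : IsLocalRing.maximalIdeal (Localization.AtPrime q) ≤ I.comap (Ideal.Quotient.mk _) :=
      hrad.trans (((hI.comap _).radical_le_iff).2 fun x hx => by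
        rw [Ideal.mem_comap, Ideal.Quotient.eq_zero_iff_mem.2 hx]; exact I.zero_mem)
    have h2 : (I.comap (Ideal.Quotient.mk _)).IsMaximal :=
      (le_antisymm (IsLocalRing.le_maximalIdeal (hI.comap _).ne_top) h1) ▸
        IsLocalRing.maximalIdeal.isMaximal _
    rw [← Ideal.map_comap_of_surjective _ Ideal.Quotient.mk_surjective I]
    refine (Ideal.map_eq_top_or_isMaximal_of_surjective _ Ideal.Quotient.mk_surjective h2).resolve_left ?_
    rw [Ideal.map_comap_of_surjective _ Ideal.Quotient.mk_surjective I]
    exact hI.ne_top
  haveI : Nontrivial L := eL.symm.toEquiv.nontrivial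
  have hL : ringKrullDim L = 0 := (ringKrullDimZero_iff_ringKrullDim_eq_zero).1 h0
  have hloc : FlatMor.localDim (PrimeSpectrum (p.Fiber S)) Q = 0 := by
    have h := localDim_eq_of_equiv Q.asIdeal eK heK 0 (by rw [trdeg_eq_zero]; rfl)
    rw [ringKrullDim_eq_of_ringEquiv eL, hL] at h
    simpa using h
  haveI : IsNoetherianRing (p.Fiber S) := Algebra.FiniteType.isNoetherianRing p.ResidueField _
  haveI : Algebra.QuasiFiniteAt p.ResidueField Q.asIdeal :=
    Algebra.QuasiFiniteAt.of_isOpen_singleton Q ((Groth.Agent.S5795.result _ Q).2 hloc)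
  exact Algebra.QuasiFiniteAt.of_quasiFiniteAt_residueField p q Q.asIdeal hQ

end Res

section Main

open scoped Classical

/-- Quasi-finite map to affine space near `q` with prescribed preimage of `q`. -/
theorem exists_quasiFinite_prescribed (R S : Type u) [CommRing R] [CommRing S] [Algebra R S]
    [Algebra.FiniteType R S] (p : Ideal R) [p.IsPrime] (q : Ideal S) [q.IsPrime] [q.LiesOver p]
    [Algebra p.ResidueField q.ResidueField] [IsScalarTower R p.ResidueField q.ResidueField]
    (Q : PrimeSpectrum (p.Fiber S))
    (hQ : Q.asIdeal.comap (Algebra.TensorProduct.includeRight.toRingHom) = q) (n r : ℕ)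
    (hdim : FlatMor.localDim (PrimeSpectrum (p.Fiber S)) Q = (n : WithBot ℕ∞))
    (hr : Algebra.trdeg p.ResidueField q.ResidueField = r) :
    ∃ g : S, g ∉ q ∧
      ∃ φ : MvPolynomial (Fin n) (Localization.Away (1 : R)) →ₐ[R] Localization.Away g,
        φ.toRingHom.FiniteType ∧ φ.toRingHom.QuasiFinite ∧
        (q.map (algebraMap S (Localization.Away g))).comap φ =
          p.map (algebraMap R (MvPolynomial (Fin n) (Localization.Away (1 : R)))) ⊔
            Ideal.span (Set.range fun i : {i : Fin n // r ≤ (i : ℕ)} =>
              (MvPolynomial.X (i : Fin n) : MvPolynomial (Fin n) (Localization.Away (1 : R)))) := by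
  let L := Localization.AtPrime q ⧸
    (p.map (algebraMap R S)).map (algebraMap S (Localization.AtPrime q))
  obtain ⟨eL⟩ := exists_localizationEquiv p q Q.asIdeal hQ
  obtain ⟨eK, heK⟩ := exists_residueFieldEquiv p q Q.asIdeal hQ.symm
  haveI : IsNoetherianRing (p.Fiber S) := Algebra.FiniteType.isNoetherianRing p.ResidueField _
  haveI : IsNoetherianRing (Localization.AtPrime Q.asIdeal) :=
    IsLocalization.isNoetherianRing Q.asIdeal.primeCompl _ inferInstance
  haveI : IsNoetherianRing L := isNoetherianRing_of_ringEquiv _ eL
  haveI : Nontrivial L := eL.symm.toEquiv.nontrivial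
  haveI : IsLocalRing L := IsLocalRing.of_surjective' (Ideal.Quotient.mk _) Ideal.Quotient.mk_surjective
  -- a system of parameters
  obtain ⟨y, hy, hcard⟩ := (IsLocalRing.maximalIdeal L).exists_finset_card_eq_height_of_isNoetherianRing
  have hn : n = r + y.card := by
    have h := localDim_eq_of_equiv Q.asIdeal eK heK r hr
    rw [ringKrullDim_eq_of_ringEquiv eL, ← IsLocalRing.maximalIdeal_height_eq_ringKrullDim] at h
    have h' := (hdim.symm.trans h)
    rw [← hcard] at h'
    have : n = y.card + r := by exact_mod_cast h'
    omega
  have hlift : ∀ z : L, z ∈ IsLocalRing.maximalIdeal L → ∃ a ∈ q, ∃ u : L, IsUnit u ∧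
      z = Ideal.Quotient.mk _ (algebraMap S (Localization.AtPrime q) a) * u := fun z hz => by
    obtain ⟨z, rfl⟩ := Ideal.Quotient.mk_surjective z
    obtain ⟨a, t, rfl⟩ := IsLocalization.exists_mk'_eq q.primeCompl z
    refine ⟨a, by_contra fun ha => hz ?_,
      Ideal.Quotient.mk _ (IsLocalization.mk' (Localization.AtPrime q) 1 t), ?_, ?_⟩
    · exact ((IsLocalization.AtPrime.isUnit_mk'_iff _ q a t).2 ha).map _
    · exact ((IsLocalization.AtPrime.isUnit_mk'_iff _ q 1 t).2
        (Ideal.one_notMem q)).map _
    · rw [← map_mul, IsLocalization.mul_mk'_eq_mk'_of_mul, mul_one]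
  have hymem : ∀ i : Fin y.card, (y.equivFin.symm i).1 ∈ IsLocalRing.maximalIdeal L := fun i =>
    hy.1.2 (Ideal.subset_span (y.equivFin.symm i).2)
  choose x hx v hv hxv using fun i => hlift _ (hymem i)
  -- a transcendence basis coming from `S`
  let s0 : Set q.ResidueField := Set.range (algebraMap S q.ResidueField)
  haveI : Algebra.IsAlgebraic (Algebra.adjoin p.ResidueField s0) q.ResidueField := ⟨fun z => by
    obtain ⟨a, b, hb, rfl⟩ := IsFractionRing.div_surjective (S ⧸ q) z
    obtain ⟨a, rfl⟩ := Ideal.Quotient.mk_surjective a
    obtain ⟨b, rfl⟩ := Ideal.Quotient.mk_surjective b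
    let B : Algebra.adjoin p.ResidueField s0 :=
      ⟨algebraMap S q.ResidueField b, Algebra.subset_adjoin ⟨b, rfl⟩⟩
    let A' : Algebra.adjoin p.ResidueField s0 :=
      ⟨algebraMap S q.ResidueField a, Algebra.subset_adjoin ⟨a, rfl⟩⟩
    have hb0 : algebraMap S q.ResidueField b ≠ 0 := by
      rw [Ne, Ideal.algebraMap_residueField_eq_zero, ← Ideal.Quotient.eq_zero_iff_mem]
      exact nonZeroDivisors.ne_zero hb
    refine ⟨Polynomial.C B * Polynomial.X - Polynomial.C A', fun h0 => hb0 ?_, ?_⟩
    · have h1 := congrArg (fun f : Polynomial (Algebra.adjoin p.ResidueField s0) => f.coeff 1) h0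
      simp at h1
      exact congrArg Subtype.val h1
    · simp only [map_sub, map_mul, Polynomial.aeval_C, Polynomial.aeval_X]
      show algebraMap S q.ResidueField b * _ - algebraMap S q.ResidueField a = 0
      rw [show algebraMap (S ⧸ q) q.ResidueField (Ideal.Quotient.mk q a) =
          algebraMap S q.ResidueField a from
          (IsScalarTower.algebraMap_apply S (S ⧸ q) q.ResidueField a).symm,
        show algebraMap (S ⧸ q) q.ResidueField (Ideal.Quotient.mk q b) =
          algebraMap S q.ResidueField b from
          (IsScalarTower.algebraMap_apply S (S ⧸ q) q.ResidueField b).symm,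
        mul_div_cancel₀ _ hb0, sub_self]⟩
  obtain ⟨t, hts, ht⟩ := exists_isTranscendenceBasis_subset (R := p.ResidueField) s0
  obtain ⟨et⟩ := Cardinal.mk_eq_nat_iff.1 (ht.cardinalMk_eq_trdeg.trans hr) |>.map Equiv.symm
  let ub : Fin r → q.ResidueField := fun i => (et i).1
  have hub : AlgebraicIndependent p.ResidueField ub := ht.1.comp et et.injective
  have huba : Algebra.IsAlgebraic (Algebra.adjoin p.ResidueField (Set.range ub)) q.ResidueField := by
    have he : Set.range ub = Set.range ((↑) : t → q.ResidueField) :=
      et.surjective.range_comp _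
    rw [he]
    exact ht.isAlgebraic
  choose u hu using fun i => hts (et i).2
  -- the map
  subst hn
  let R' := Localization.Away (1 : R)
  have hR' : Function.Bijective (algebraMap R R') :=
    ((IsLocalization.atUnits R (Submonoid.powers (1 : R)) (S := R')
      (by rw [Submonoid.powers_one]; exact bot_le))).bijective
  let i0 : R' →+* S := IsLocalization.Away.lift (1 : R) (g := algebraMap R S) (by simp)
  let w : Fin (r + y.card) → S := Fin.append u x
  let A := MvPolynomial (Fin (r + y.card)) R'
  letI : Algebra A S := (MvPolynomial.eval₂Hom i0 w).toAlgebra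
  have hAX : ∀ i, algebraMap A S (MvPolynomial.X i) = w i := fun i =>
    MvPolynomial.eval₂Hom_X' i0 w i
  have hAR : ∀ c : R, algebraMap A S (algebraMap R A c) = algebraMap R S c := fun c => by
    rw [IsScalarTower.algebraMap_apply R R' A]
    refine (MvPolynomial.eval₂Hom_C i0 w _).trans ?_
    exact IsLocalization.Away.lift_eq (1 : R) _ c
  haveI : IsScalarTower R A S := IsScalarTower.of_algebraMap_eq fun c => (hAR c).symm
  haveI : Algebra.FiniteType A S := Algebra.FiniteType.of_restrictScalars_finiteType R _ _
  let J : Ideal A := p.map (algebraMap R A) ⊔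
    Ideal.span (Set.range fun i : {i : Fin (r + y.card) // r ≤ (i : ℕ)} =>
      (MvPolynomial.X (i : Fin (r + y.card)) : A))
  let P : Ideal A := q.under A
  haveI : P.LiesOver p := ⟨by rw [Ideal.under_under]; exact q.over_def p⟩
  letI : Algebra P.ResidueField q.ResidueField :=
    (Ideal.ResidueField.mapₐ P q (Algebra.ofId A S) rfl).toRingHom.toAlgebra
  haveI : IsScalarTower A P.ResidueField q.ResidueField :=
    IsScalarTower.of_algebraMap_eq fun a =>
      ((Ideal.ResidueField.mapₐ P q (Algebra.ofId A S) rfl).commutes a).symm
  letI : Algebra p.ResidueField P.ResidueField :=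
    (Ideal.ResidueField.mapₐ p P (Algebra.ofId R A) (P.over_def p)).toRingHom.toAlgebra
  haveI : IsScalarTower R p.ResidueField P.ResidueField :=
    IsScalarTower.of_algebraMap_eq fun a =>
      ((Ideal.ResidueField.mapₐ p P (Algebra.ofId R A) (P.over_def p)).commutes a).symm
  haveI : IsScalarTower p.ResidueField P.ResidueField q.ResidueField := by
    refine IsScalarTower.of_algebraMap_eq' (Ideal.ResidueField.ringHom_ext (RingHom.ext fun c => ?_))
    show algebraMap p.ResidueField q.ResidueField (algebraMap R p.ResidueField c) =
      algebraMap P.ResidueField q.ResidueField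
        (algebraMap p.ResidueField P.ResidueField (algebraMap R p.ResidueField c))
    rw [← IsScalarTower.algebraMap_apply R p.ResidueField q.ResidueField,
      ← IsScalarTower.algebraMap_apply R p.ResidueField P.ResidueField,
      IsScalarTower.algebraMap_apply R A P.ResidueField,
      ← IsScalarTower.algebraMap_apply A P.ResidueField q.ResidueField,
      IsScalarTower.algebraMap_apply A S q.ResidueField, hAR,
      ← IsScalarTower.algebraMap_apply R S q.ResidueField]
  -- `κ(q)` is algebraic over `κ(P)`
  have halg : Algebra.IsAlgebraic P.ResidueField q.ResidueField := by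
    let j := IsScalarTower.toAlgHom p.ResidueField P.ResidueField q.ResidueField
    have hle : Algebra.adjoin p.ResidueField (Set.range ub) ≤ j.range :=
      Algebra.adjoin_le (by
        rintro _ ⟨i, rfl⟩
        refine ⟨algebraMap A P.ResidueField (MvPolynomial.X (Fin.castAdd y.card i)), ?_⟩
        show algebraMap P.ResidueField q.ResidueField (algebraMap A P.ResidueField _) = _
        rw [← IsScalarTower.algebraMap_apply A P.ResidueField q.ResidueField,
          IsScalarTower.algebraMap_apply A S q.ResidueField, hAX]
        show algebraMap S q.ResidueField (Fin.append u x (Fin.castAdd y.card i)) = _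
        rw [Fin.append_left]
        exact hu i)
    let k : Algebra.adjoin p.ResidueField (Set.range ub) →+* P.ResidueField :=
      ((AlgEquiv.ofInjective j (RingHom.injective _)).symm.toAlgHom.comp
        (Subalgebra.inclusion hle)).toRingHom
    letI := k.toAlgebra
    haveI : IsScalarTower (Algebra.adjoin p.ResidueField (Set.range ub)) P.ResidueField
        q.ResidueField := IsScalarTower.of_algebraMap_eq fun c => by
      show c.1 = j ((AlgEquiv.ofInjective j (RingHom.injective _)).symm (Subalgebra.inclusion hle c))
      rw [← AlgEquiv.ofInjective_apply j (RingHom.injective _), AlgEquiv.apply_symm_apply]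
      rfl
    exact Algebra.IsAlgebraic.extendScalars (R := Algebra.adjoin p.ResidueField (Set.range ub))
      ((AlgEquiv.ofInjective j (RingHom.injective _)).symm.injective.comp
        (Subalgebra.inclusion_injective hle))
  have hpP : ∀ c ∈ p, algebraMap R A c ∈ P := fun c hc => Ideal.mem_comap.1 ((P.over_def p).le hc)
  haveI : IsLocalHom (Ideal.Quotient.mk ((p.map (algebraMap R S)).map
      (algebraMap S (Localization.AtPrime q)))) :=
    IsLocalHom.of_surjective _ Ideal.Quotient.mk_surjective
  -- the fibre at `q` over `P` is zero-dimensional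
  have hrad : IsLocalRing.maximalIdeal (Localization.AtPrime q) ≤
      ((P.map (algebraMap A S)).map (algebraMap S (Localization.AtPrime q))).radical := by
    intro z hz
    let I := (P.map (algebraMap A S)).map (algebraMap S (Localization.AtPrime q))
    have hpI : (p.map (algebraMap R S)).map (algebraMap S (Localization.AtPrime q)) ≤ I := by
      refine Ideal.map_mono (Ideal.map_le_iff_le_comap.2 fun c hc => ?_)
      rw [Ideal.mem_comap, ← hAR c]
      refine Ideal.mem_map_of_mem _ ?_
      show algebraMap R A c ∈ P
      exact hpP c hc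
    have hspan : Ideal.span (y : Set L) ≤ I.map (Ideal.Quotient.mk _) := by
      refine Ideal.span_le.2 fun z hz => ?_
      obtain ⟨i, rfl⟩ : ∃ i, (y.equivFin.symm i).1 = z :=
        ⟨y.equivFin ⟨z, hz⟩, by rw [Equiv.symm_apply_apply]⟩
      rw [SetLike.mem_coe, hxv i]
      refine Ideal.mul_mem_right _ _ (Ideal.mem_map_of_mem _ (Ideal.mem_map_of_mem _ ?_))
      have hX : algebraMap A S (MvPolynomial.X (Fin.natAdd r i)) = x i := by
        rw [hAX]
        exact Fin.append_right u x i
      rw [← hX]
      refine Ideal.mem_map_of_mem _ ?_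
      show algebraMap A S _ ∈ q
      rw [hX]
      exact hx i
    have hzL : Ideal.Quotient.mk _ z ∈ (Ideal.span (y : Set L)).radical := by
      rw [Ideal.radical_eq_sInf, Ideal.mem_sInf]
      rintro M ⟨hM, hMp⟩
      have hle : M ≤ IsLocalRing.maximalIdeal L := IsLocalRing.le_maximalIdeal hMp.ne_top
      exact hy.2 ⟨hMp, hM⟩ hle fun hu => hz
        (isUnit_of_map_unit (Ideal.Quotient.mk _) z hu)
    obtain ⟨m, hm⟩ := Ideal.radical_mono hspan hzL
    refine ⟨m, ?_⟩
    rw [← map_pow, Ideal.mem_quotient_iff_mem hpI] at hm
    exact hm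
  haveI : Algebra.QuasiFiniteAt A q := quasiFiniteAt_of_isAlgebraic P q halg hrad
  -- the preimage of `q` is `J`
  have hPJ : P = J := by
    refine le_antisymm (fun a ha => ?_) (sup_le ?_ (Ideal.span_le.2 ?_))
    · let π : A →ₐ[R'] A := MvPolynomial.aeval fun i => if (i : ℕ) < r then MvPolynomial.X i else 0
      have hπ : a - π a ∈ J := by
        have h2 : (Ideal.Quotient.mkₐ R' J).comp π = Ideal.Quotient.mkₐ R' J := by
          refine MvPolynomial.algHom_ext fun i => ?_
          simp only [π, AlgHom.comp_apply, MvPolynomial.aeval_X]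
          split_ifs with hi
          · rfl
          · rw [map_zero]
            exact Eq.symm (Ideal.Quotient.eq_zero_iff_mem.2
              (Ideal.mem_sup_right (Ideal.subset_span ⟨(⟨i, Nat.le_of_not_lt hi⟩ : {i : Fin (r + y.card) // r ≤ (i : ℕ)}), rfl⟩)))
        exact (Ideal.Quotient.mk_eq_mk_iff_sub_mem _ _).1 (DFunLike.congr_fun h2 a).symm
      let π' : A →ₐ[R'] MvPolynomial (Fin r) R' := MvPolynomial.aeval fun i : Fin (r + y.card) =>
        if hi : (i : ℕ) < r then MvPolynomial.X ⟨i, hi⟩ else 0
      have hπ' : π = (MvPolynomial.rename (Fin.castAdd y.card)).comp π' := by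
        refine MvPolynomial.algHom_ext fun i => ?_
        simp only [π, π', AlgHom.comp_apply, MvPolynomial.aeval_X]
        split_ifs with hi
        · rw [MvPolynomial.rename_X]
          rfl
        · rw [map_zero]
      let b := π' a
      let iq : R' →+* q.ResidueField := (algebraMap S q.ResidueField).comp i0
      have hb : MvPolynomial.eval₂Hom iq ub b = 0 := by
        have h1 : π a ∈ P := by
          have hJP : J ≤ P := by
            refine sup_le (Ideal.map_le_iff_le_comap.2 fun c hc => ?_) (Ideal.span_le.2 ?_)
            · exact hpP c hc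
            · rintro _ ⟨⟨i, hi⟩, rfl⟩
              show algebraMap A S (MvPolynomial.X i) ∈ q
              rw [hAX]
              obtain ⟨j, rfl⟩ : ∃ j, Fin.natAdd r j = i :=
                ⟨⟨i - r, by omega⟩, Fin.ext (by simp; omega)⟩
              show Fin.append u x (Fin.natAdd r j) ∈ q
              rw [Fin.append_right]
              exact hx j
          have := P.sub_mem ha (hJP hπ)
          rwa [sub_sub_cancel] at this
        rw [hπ'] at h1
        have h2 : algebraMap A S (MvPolynomial.rename (Fin.castAdd y.card) b) ∈ q := h1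
        rw [← Ideal.algebraMap_residueField_eq_zero] at h2
        rw [← h2]
        show _ = ((algebraMap S q.ResidueField).comp (algebraMap A S)) _
        refine DFunLike.congr_fun (g := ((algebraMap S q.ResidueField).comp (algebraMap A S)).comp
          (MvPolynomial.rename (Fin.castAdd y.card)).toRingHom) ?_ b
        refine MvPolynomial.ringHom_ext (fun c => ?_) fun i => ?_
        · show MvPolynomial.eval₂Hom iq ub (MvPolynomial.C c) = algebraMap S q.ResidueField
            (algebraMap A S (MvPolynomial.rename _ (MvPolynomial.C c)))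
          rw [MvPolynomial.rename_C, MvPolynomial.eval₂Hom_C]
          exact congrArg (algebraMap S q.ResidueField) (MvPolynomial.eval₂Hom_C i0 w c).symm
        · show MvPolynomial.eval₂Hom iq ub (MvPolynomial.X i) = algebraMap S q.ResidueField
            (algebraMap A S (MvPolynomial.rename _ (MvPolynomial.X i)))
          rw [MvPolynomial.rename_X, MvPolynomial.eval₂Hom_X', hAX]
          show ub i = algebraMap S q.ResidueField (Fin.append u x (Fin.castAdd y.card i))
          rw [Fin.append_left]
          exact (hu i).symm
      let jp : R' →+* p.ResidueField :=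
        IsLocalization.Away.lift (1 : R) (g := algebraMap R p.ResidueField) (by simp)
      have hjp : (algebraMap p.ResidueField q.ResidueField).comp jp = iq := by
        refine IsLocalization.ringHom_ext (Submonoid.powers (1 : R)) (RingHom.ext fun c => ?_)
        show algebraMap p.ResidueField q.ResidueField (jp (algebraMap R R' c)) =
          algebraMap S q.ResidueField (i0 (algebraMap R R' c))
        rw [IsLocalization.Away.lift_eq, IsLocalization.Away.lift_eq,
          ← IsScalarTower.algebraMap_apply, ← IsScalarTower.algebraMap_apply]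
      have hmap : MvPolynomial.map jp b = 0 := by
        refine hub ?_
        rw [map_zero, MvPolynomial.aeval_def, MvPolynomial.eval₂_map, hjp]
        exact hb
      have hbJ : b ∈ (p.map (algebraMap R R')).map
          (MvPolynomial.C : R' →+* MvPolynomial (Fin r) R') := by
        rw [MvPolynomial.mem_map_C_iff]
        intro m
        have h := congrArg (MvPolynomial.coeff m) hmap
        rw [MvPolynomial.coeff_map, MvPolynomial.coeff_zero] at h
        obtain ⟨c, hc⟩ := hR'.2 (b.coeff m)
        rw [← hc, IsLocalization.Away.lift_eq, Ideal.algebraMap_residueField_eq_zero] at h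
        rw [← hc]
        exact Ideal.mem_map_of_mem _ h
      have hπJ : π a ∈ J := by
        rw [hπ']
        refine Ideal.mem_sup_left ?_
        have := Ideal.mem_map_of_mem (MvPolynomial.rename (R := R') (Fin.castAdd y.card)).toRingHom hbJ
        rw [Ideal.map_map, Ideal.map_map] at this
        convert this using 1
        congr 1
        refine RingHom.ext fun c => ?_
        show algebraMap R A c = MvPolynomial.rename _ (MvPolynomial.C (algebraMap R R' c))
        rw [MvPolynomial.rename_C]
        rfl
        rfl
      have := J.add_mem hπ hπJ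
      rwa [sub_add_cancel] at this
    · exact Ideal.map_le_iff_le_comap.2 fun c hc => hpP c hc
    · rintro _ ⟨⟨i, hi⟩, rfl⟩
      show algebraMap A S (MvPolynomial.X i) ∈ q
      rw [hAX]
      obtain ⟨j, rfl⟩ : ∃ j, Fin.natAdd r j = i :=
        ⟨⟨i - r, by omega⟩, Fin.ext (by simp; omega)⟩
      show Fin.append u x (Fin.natAdd r j) ∈ q
      rw [Fin.append_right]
      exact hx j
  obtain ⟨g, hg, hqf⟩ := exists_notMem_quasiFinite_away (R := A) q
  let φ : A →ₐ[R] Localization.Away g := (IsScalarTower.toAlgHom A S (Localization.Away g)).restrictScalars R |>.comp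
    (IsScalarTower.toAlgHom R A S)
  refine ⟨g, hg, φ, ?_, ?_, ?_⟩
  · show RingHom.FiniteType φ.toRingHom
    have : φ.toRingHom = algebraMap A (Localization.Away g) :=
      RingHom.ext fun a => (IsScalarTower.algebraMap_apply A S (Localization.Away g) a).symm
    rw [this, RingHom.finiteType_algebraMap]
    haveI : Algebra.FiniteType S (Localization.Away g) :=
      IsLocalization.finiteType_of_monoid_fg (Submonoid.powers g) _
    exact Algebra.FiniteType.trans (S := S) inferInstance inferInstance
  · have : φ.toRingHom = algebraMap A (Localization.Away g) :=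
      RingHom.ext fun a => (IsScalarTower.algebraMap_apply A S (Localization.Away g) a).symm
    rw [this, RingHom.quasiFinite_algebraMap]
    exact hqf
  · show Ideal.comap _ _ = J
    rw [← hPJ]
    have hq : (q.map (algebraMap S (Localization.Away g))).comap (algebraMap S (Localization.Away g)) = q :=
      IsLocalization.under_map_of_isPrime_disjoint (Submonoid.powers g) _ ‹_› (by
        rw [Set.disjoint_left]
        rintro _ ⟨m, rfl⟩ hm
        exact hg (Ideal.IsPrime.mem_of_pow_mem inferInstance m hm))
    ext a
    show algebraMap S (Localization.Away g) (algebraMap A S a) ∈ q.map (algebraMap S (Localization.Away g)) ↔ algebraMap A S a ∈ q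
    conv_rhs => rw [← hq]
    rfl

end Main

end Groth.Agent.RelDim
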