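import Groth.Agent.RelDim.FibreAway
import Groth.Agent.FlatOpen.FibreAPI
import Groth.Agent.FlatOpen.API
import Groth.Agent.S9159
import Mathlib.RingTheory.MvPolynomial.Localization

/-!
# Cohen–Macaulay points of a morphism (EGA IV 12.1, 15.4)

`R → S` is Cohen–Macaulay at `q` with relative dimension `n` iff near `q` it factors as a flat
quasi-finite algebra over `R[t_1, …, t_n]`; hence the CM locus is open and the relative dimension
is locally constant on it.
-/

set_option autoImplicit false
set_option linter.style.haveILetI false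

universe u

open TensorProduct

namespace Groth.Agent.RelDim

section Fibre

variable {R C : Type u} [CommRing R] [CommRing C] [Algebra R C] {n : ℕ}
  [Algebra (MvPolynomial (Fin n) R) C] [IsScalarTower R (MvPolynomial (Fin n) R) C]

/-- The induced map from affine space over `κ(p)` to the fibre. -/
noncomputable def fibreMap (p : Ideal R) [p.IsPrime] :
    MvPolynomial (Fin n) p.ResidueField →ₐ[p.ResidueField] p.Fiber C :=
  MvPolynomial.aeval fun i =>
    (1 : p.ResidueField) ⊗ₜ[R] algebraMap (MvPolynomial (Fin n) R) C (MvPolynomial.X i)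

lemma fibreMap_map (p : Ideal R) [p.IsPrime] (a : MvPolynomial (Fin n) R) :
    fibreMap (C := C) p (MvPolynomial.map (algebraMap R p.ResidueField) a) =
      (1 : p.ResidueField) ⊗ₜ[R] algebraMap (MvPolynomial (Fin n) R) C a := by
  have h : (fibreMap (C := C) p).toRingHom.comp (MvPolynomial.map (algebraMap R p.ResidueField)) =
      (Algebra.TensorProduct.includeRight.toRingHom).comp (algebraMap (MvPolynomial (Fin n) R) C) := by
    refine MvPolynomial.ringHom_ext (fun c => ?_) fun i => ?_
    · show fibreMap p (MvPolynomial.map _ (MvPolynomial.C c)) =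
        (Algebra.TensorProduct.includeRight : C →ₐ[R] p.Fiber C)
          (algebraMap (MvPolynomial (Fin n) R) C (algebraMap R (MvPolynomial (Fin n) R) c))
      rw [MvPolynomial.map_C, fibreMap, MvPolynomial.aeval_C,
        ← IsScalarTower.algebraMap_apply R p.ResidueField (p.Fiber C),
        ← IsScalarTower.algebraMap_apply R (MvPolynomial (Fin n) R) C, AlgHom.commutes]
    · show fibreMap p (MvPolynomial.map _ (MvPolynomial.X i)) = _
      rw [MvPolynomial.map_X, fibreMap, MvPolynomial.aeval_X]
      rfl
  exact DFunLike.congr_fun h a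

/-- The fibre of a quasi-finite algebra over affine space is quasi-finite over affine space. -/
lemma quasiFinite_fibreMap [Algebra.FiniteType R C] [Algebra.QuasiFinite (MvPolynomial (Fin n) R) C]
    (p : Ideal R) [p.IsPrime] : (fibreMap (C := C) (n := n) p).toRingHom.QuasiFinite := by
  letI : Algebra (MvPolynomial (Fin n) p.ResidueField) (p.Fiber C) :=
    (fibreMap (C := C) p).toRingHom.toAlgebra
  haveI : IsScalarTower p.ResidueField (MvPolynomial (Fin n) p.ResidueField) (p.Fiber C) :=
    IsScalarTower.of_algebraMap_eq fun x => ((fibreMap (C := C) p).commutes x).symm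
  haveI : Algebra.FiniteType (MvPolynomial (Fin n) p.ResidueField) (p.Fiber C) :=
    Algebra.FiniteType.of_restrictScalars_finiteType p.ResidueField _ _
  show Algebra.QuasiFinite (MvPolynomial (Fin n) p.ResidueField) (p.Fiber C)
  rw [Algebra.QuasiFinite.iff_finite_primesOver]
  intro I hI
  let J := I.comap (MvPolynomial.map (algebraMap R p.ResidueField))
  refine Set.Finite.of_finite_image (f := fun P : Ideal (p.Fiber C) =>
    P.comap Algebra.TensorProduct.includeRight.toRingHom) ?_ ?_
  · refine (Algebra.QuasiFinite.finite_primesOver (R := MvPolynomial (Fin n) R) (S := C) J).subset ?_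
    rintro _ ⟨P, ⟨hP, hPI⟩, rfl⟩
    refine ⟨Ideal.comap_isPrime _ _, ⟨?_⟩⟩
    ext a
    show MvPolynomial.map (algebraMap R p.ResidueField) a ∈ I ↔
      (1 : p.ResidueField) ⊗ₜ[R] algebraMap (MvPolynomial (Fin n) R) C a ∈ P
    rw [← fibreMap_map, hPI.over]
    rfl
  · intro P hP P' hP' h
    haveI := hP.1
    haveI := hP'.1
    exact congrArg PrimeSpectrum.asIdeal ((PrimeSpectrum.preimageEquivFiber R C ⟨p, inferInstance⟩).symm.injective
      (Subtype.ext (PrimeSpectrum.ext h)) : (⟨P, hP.1⟩ : PrimeSpectrum (p.Fiber C)) = ⟨P', hP'.1⟩)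

/-- Flatness over affine space restricts to the fibres. -/
lemma flat_fibreMap (p : Ideal R) [p.IsPrime] (q : Ideal C) [q.IsPrime] (Q : Ideal (p.Fiber C))
    [Q.IsPrime] (hQ : Q.comap Algebra.TensorProduct.includeRight.toRingHom = q)
    (h : Module.Flat (MvPolynomial (Fin n) R) (Localization.AtPrime q)) :
    letI : Algebra (MvPolynomial (Fin n) p.ResidueField) (p.Fiber C) :=
      (fibreMap (C := C) p).toRingHom.toAlgebra
    Module.Flat (MvPolynomial (Fin n) p.ResidueField) (Localization.AtPrime Q) := by
  letI : Algebra (MvPolynomial (Fin n) p.ResidueField) (p.Fiber C) :=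
    (fibreMap (C := C) p).toRingHom.toAlgebra
  haveI : IsScalarTower p.ResidueField (MvPolynomial (Fin n) p.ResidueField) (p.Fiber C) :=
    IsScalarTower.of_algebraMap_eq fun x => ((fibreMap (C := C) p).commutes x).symm
  let A := MvPolynomial (Fin n) R
  let A' := MvPolynomial (Fin n) p.ResidueField
  let F := p.Fiber C
  letI : Algebra A A' := MvPolynomial.algebraMvPolynomial
  letI : Algebra C F := Algebra.TensorProduct.rightAlgebra
  letI : Algebra A F := ((algebraMap C F).comp (algebraMap A C)).toAlgebra
  haveI : IsScalarTower A C F := IsScalarTower.of_algebraMap_eq fun _ => rfl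
  haveI : IsScalarTower A A' F := IsScalarTower.of_algebraMap_eq fun a => by
    show (1 : p.ResidueField) ⊗ₜ[R] algebraMap A C a = fibreMap p (algebraMap A A' a)
    rw [MvPolynomial.algebraMap_def, fibreMap_map]
  haveI : IsScalarTower R A F := IsScalarTower.of_algebraMap_eq fun c => by
    show algebraMap R F c = algebraMap C F (algebraMap A C (algebraMap R A c))
    rw [← IsScalarTower.algebraMap_apply R A C, ← IsScalarTower.algebraMap_apply R C F]
  haveI : IsScalarTower R A' F := IsScalarTower.of_algebraMap_eq fun c => by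
    rw [IsScalarTower.algebraMap_apply R p.ResidueField A',
      ← IsScalarTower.algebraMap_apply p.ResidueField A' F,
      ← IsScalarTower.algebraMap_apply R p.ResidueField F]
  haveI : Algebra.IsPushout R A p.ResidueField A' := inferInstance
  haveI : Algebra.IsPushout R C p.ResidueField F := .symm inferInstance
  haveI : Algebra.IsPushout A C A' F :=
    (Algebra.IsPushout.comp_iff (R := R) (S := A) (R' := p.ResidueField) (S' := A') (T := C)
      (T' := F)).1 inferInstance
  have hb : IsBaseChange F (Algebra.linearMap C F) :=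
    IsBaseChange.of_equiv (AlgebraTensorModule.rid C F F) fun x => by
      simp [Algebra.smul_def]
  have hself : FlatCA.FlatAt A q C := by
    haveI := h
    exact Module.Flat.of_linearEquiv
      ((Depth.localizedModuleSelfEquiv q.primeCompl).restrictScalars A)
  have hF := FlatMor.FlatAtBC.flatAt_of_baseChange (R := A) (S := C) (R' := A') (S' := F)
    (Algebra.linearMap C F) hb q Q hQ hself
  haveI : Module.Flat A' (LocalizedModule Q.primeCompl F) := hF
  exact Module.Flat.of_linearEquiv
    ((Depth.localizedModuleSelfEquiv Q.primeCompl).restrictScalars A').symm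

end Fibre

section Backward

/-- A point where `C` is flat and quasi-finite over `R[t_1, …, t_n]` is a Cohen–Macaulay point of
relative dimension `n`. -/
theorem cm_of_flat_quasiFinite (R C : Type u) [CommRing R] [CommRing C] [Algebra R C]
    [Algebra.FiniteType R C] {n : ℕ} [Algebra (MvPolynomial (Fin n) R) C]
    [IsScalarTower R (MvPolynomial (Fin n) R) C] [Algebra.QuasiFinite (MvPolynomial (Fin n) R) C]
    (p : Ideal R) [p.IsPrime] (q : Ideal C) [q.IsPrime] [q.LiesOver p]
    (h : Module.Flat (MvPolynomial (Fin n) R) (Localization.AtPrime q)) :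
    Module.Flat R (Localization.AtPrime q) ∧
      LocCoh.IsCohenMacaulayLocalRing (EGA4.FibLocRing R C q) ∧
      ∀ Q : PrimeSpectrum (p.Fiber C),
        Q.asIdeal.comap Algebra.TensorProduct.includeRight.toRingHom = q →
          FlatMor.localDim (PrimeSpectrum (p.Fiber C)) Q = (n : WithBot ℕ∞) := by
  haveI := h
  refine ⟨Module.Flat.trans R (MvPolynomial (Fin n) R) _, ?_⟩
  letI : Algebra (MvPolynomial (Fin n) p.ResidueField) (p.Fiber C) :=
    (fibreMap (C := C) p).toRingHom.toAlgebra
  haveI : IsScalarTower p.ResidueField (MvPolynomial (Fin n) p.ResidueField) (p.Fiber C) :=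
    IsScalarTower.of_algebraMap_eq fun x => ((fibreMap (C := C) p).commutes x).symm
  haveI : Algebra.QuasiFinite (MvPolynomial (Fin n) p.ResidueField) (p.Fiber C) :=
    quasiFinite_fibreMap p
  have key := fun (Q : PrimeSpectrum (p.Fiber C))
      (hQ : Q.asIdeal.comap Algebra.TensorProduct.includeRight.toRingHom = q) =>
    (S9159.result p.ResidueField (p.Fiber C) n Q.asIdeal).1 (flat_fibreMap p q Q.asIdeal hQ h)
  refine ⟨?_, fun Q hQ => (key Q hQ).2⟩
  obtain ⟨Q, hQ⟩ := exists_over' p q
  obtain ⟨e⟩ := nonempty_equiv_fibLocRing p q Q.asIdeal hQ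
  haveI := (key Q hQ).1
  exact isCohenMacaulayLocalRing_ringEquiv (A := Localization.AtPrime Q.asIdeal) e.symm

end Backward

section Forward

/-- The map from `R[x] ⧸ p R[x]` to `κ(p)[x]` is a localisation, hence flat. -/
lemma exists_flat_polynomial_map (R : Type u) [CommRing R] (n : ℕ) (p : Ideal R) [p.IsPrime] :
    ∃ g : (MvPolynomial (Fin n) R ⧸ p.map (algebraMap R (MvPolynomial (Fin n) R))) →+*
        MvPolynomial (Fin n) p.ResidueField,
      g.Flat ∧ g.comp (Ideal.Quotient.mk _) = MvPolynomial.map (algebraMap R p.ResidueField) := by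
  let A0 := MvPolynomial (Fin n) (R ⧸ p)
  let A' := MvPolynomial (Fin n) p.ResidueField
  letI : Algebra A0 A' := MvPolynomial.algebraMvPolynomial
  let M0 : Submonoid A0 := (nonZeroDivisors (R ⧸ p)).map (MvPolynomial.C (σ := Fin n))
  haveI : IsLocalization M0 A' := MvPolynomial.isLocalization _ _
  haveI : Module.Flat A0 A' := IsLocalization.flat A' M0
  let e := MvPolynomial.quotientEquivQuotientMvPolynomial (σ := Fin n) p
  refine ⟨(algebraMap A0 A').comp e.symm.toRingEquiv.toRingHom,
    RingHom.Flat.comp (RingHom.Flat.of_bijective e.symm.bijective)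
      (RingHom.flat_algebraMap_iff.2 inferInstance), ?_⟩
  refine MvPolynomial.ringHom_ext (fun c => ?_) fun i => ?_
  · show algebraMap A0 A' (e.symm (Ideal.Quotient.mk _ (MvPolynomial.C c))) =
      MvPolynomial.map _ (MvPolynomial.C c)
    have : e.symm (Ideal.Quotient.mk _ (MvPolynomial.C c)) =
        MvPolynomial.C (Ideal.Quotient.mk p c) := e.symm.commutes c
    rw [this, MvPolynomial.algebraMap_def, MvPolynomial.map_C, MvPolynomial.map_C]
    exact congrArg _ (IsScalarTower.algebraMap_apply R (R ⧸ p) p.ResidueField c).symm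
  · show algebraMap A0 A' (e.symm (Ideal.Quotient.mk _ (MvPolynomial.X i))) =
      MvPolynomial.map _ (MvPolynomial.X i)
    have hX : e (MvPolynomial.X i) = Ideal.Quotient.mk _ (MvPolynomial.X i) :=
      MvPolynomial.eval₂_X _ _ i
    have : e.symm (Ideal.Quotient.mk _ (MvPolynomial.X i)) = MvPolynomial.X i := by
      rw [← hX, AlgEquiv.symm_apply_apply]
    rw [this, MvPolynomial.algebraMap_def, MvPolynomial.map_X, MvPolynomial.map_X]

/-- If a ring receiving `C` with kernel `I C` is flat over `A ⧸ I`, so is `(A ⧸ I) ⊗ C`. -/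
lemma flat_quotient_tensor {A C D : Type u} [CommRing A] [CommRing C] [CommRing D] [Algebra A C]
    (I : Ideal A) (h : (A ⧸ I) →+* D) (hflat : h.Flat) (ψ : C →+* D) (hψs : Function.Surjective ψ)
    (hψk : RingHom.ker ψ ≤ I.map (algebraMap A C))
    (hψa : ∀ a, ψ (algebraMap A C a) = h (Ideal.Quotient.mk I a)) :
    Module.Flat (A ⧸ I) ((A ⧸ I) ⊗[A] C) := by
  algebraize [h]
  haveI : Module.Flat (A ⧸ I) D := hflat
  letI : Algebra A D := (h.comp (Ideal.Quotient.mk I)).toAlgebra
  haveI : IsScalarTower A (A ⧸ I) D := IsScalarTower.of_algebraMap_eq fun _ => rfl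
  let ψA : C →ₐ[A] D := { ψ with commutes' := hψa }
  let θ : (A ⧸ I) ⊗[A] C →ₐ[A ⧸ I] D :=
    Algebra.TensorProduct.lift (Algebra.ofId _ _) ψA fun _ _ => Commute.all _ _
  have hθ : ∀ c, θ ((1 : A ⧸ I) ⊗ₜ[A] c) = ψ c := fun c => by
    simp only [θ, Algebra.TensorProduct.lift_tmul, map_one, one_mul]
    rfl
  have hrep : ∀ x : (A ⧸ I) ⊗[A] C, ∃ c, x = (1 : A ⧸ I) ⊗ₜ[A] c := by
    intro x
    induction x using TensorProduct.induction_on with
    | zero => exact ⟨0, (TensorProduct.tmul_zero _ _).symm⟩
    | add x y hx hy =>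
      obtain ⟨a, rfl⟩ := hx
      obtain ⟨b, rfl⟩ := hy
      exact ⟨a + b, (TensorProduct.tmul_add _ _ _).symm⟩
    | tmul a c =>
      obtain ⟨a, rfl⟩ := Ideal.Quotient.mk_surjective a
      exact ⟨a • c, by rw [← TensorProduct.smul_tmul]; congr 1; simp [Algebra.smul_def]⟩
  have hθb : Function.Bijective θ := by
    refine ⟨(injective_iff_map_eq_zero θ).2 fun x hx => ?_, fun y => ?_⟩
    · obtain ⟨c, rfl⟩ := hrep x
      rw [hθ] at hx
      have hle : I.map (algebraMap A C) ≤ RingHom.ker
          (Algebra.TensorProduct.includeRight : C →ₐ[A] (A ⧸ I) ⊗[A] C).toRingHom := by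
        refine Ideal.map_le_iff_le_comap.2 fun a ha => ?_
        show (Algebra.TensorProduct.includeRight : C →ₐ[A] (A ⧸ I) ⊗[A] C) (algebraMap A C a) = 0
        rw [AlgHom.commutes, Algebra.TensorProduct.algebraMap_apply, Ideal.Quotient.algebraMap_eq,
          Ideal.Quotient.eq_zero_iff_mem.2 ha, TensorProduct.zero_tmul]
      exact hle (hψk hx)
    · obtain ⟨c, rfl⟩ := hψs y
      exact ⟨_, hθ c⟩
  exact Module.Flat.of_linearEquiv (AlgEquiv.ofBijective θ hθb).toLinearEquiv

/-- The fibrewise flatness criterion at a Cohen–Macaulay point, for a quasi-finite map to affine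
space of the right dimension. -/
theorem flat_of_cm_quasiFinite (R C : Type u) [CommRing R] [CommRing C] [Algebra R C]
    [Algebra.FinitePresentation R C] {n : ℕ} [Algebra (MvPolynomial (Fin n) R) C]
    [IsScalarTower R (MvPolynomial (Fin n) R) C] [Algebra.QuasiFinite (MvPolynomial (Fin n) R) C]
    (p : Ideal R) [p.IsPrime] (q : Ideal C) [q.IsPrime] [q.LiesOver p]
    (hflat : Module.Flat R (Localization.AtPrime q))
    (hcm : LocCoh.IsCohenMacaulayLocalRing (EGA4.FibLocRing R C q))
    (Q : PrimeSpectrum (p.Fiber C))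
    (hQ : Q.asIdeal.comap Algebra.TensorProduct.includeRight.toRingHom = q)
    (hdim : FlatMor.localDim (PrimeSpectrum (p.Fiber C)) Q = (n : WithBot ℕ∞)) :
    Module.Flat (MvPolynomial (Fin n) R) (Localization.AtPrime q) := by
  obtain ⟨ψ, hψs, hψk, hψa⟩ := exists_localRingHom_fibre p q Q.asIdeal hQ
  obtain ⟨g, hg, hgc⟩ := exists_flat_polynomial_map R n p
  letI : Algebra (MvPolynomial (Fin n) p.ResidueField) (p.Fiber C) :=
    (fibreMap (C := C) p).toRingHom.toAlgebra
  haveI : IsScalarTower p.ResidueField (MvPolynomial (Fin n) p.ResidueField) (p.Fiber C) :=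
    IsScalarTower.of_algebraMap_eq fun x => ((fibreMap (C := C) p).commutes x).symm
  haveI : Algebra.QuasiFinite (MvPolynomial (Fin n) p.ResidueField) (p.Fiber C) :=
    quasiFinite_fibreMap p
  obtain ⟨e⟩ := nonempty_equiv_fibLocRing p q Q.asIdeal hQ
  haveI := hcm
  have hf : Module.Flat (MvPolynomial (Fin n) p.ResidueField) (Localization.AtPrime Q.asIdeal) :=
    (S9159.result p.ResidueField (p.Fiber C) n Q.asIdeal).2
      ⟨isCohenMacaulayLocalRing_ringEquiv (A := EGA4.FibLocRing R C q) e, hdim⟩
  let L := Localization.AtPrime Q.asIdeal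
  let aL : MvPolynomial (Fin n) p.ResidueField →+* L :=
    (algebraMap (p.Fiber C) L).comp (fibreMap (C := C) p).toRingHom
  have haL : aL = algebraMap (MvPolynomial (Fin n) p.ResidueField) L :=
    (IsScalarTower.algebraMap_eq (MvPolynomial (Fin n) p.ResidueField) (p.Fiber C) L).symm
  have hh2 : RingHom.Flat (R := MvPolynomial (Fin n) p.ResidueField) (S := L) aL := by
    rw [haL]; exact (RingHom.flat_algebraMap_iff (R := MvPolynomial (Fin n) p.ResidueField) (S := L)).2 hf
  have hh : RingHom.Flat (S := L) (aL.comp g) := RingHom.Flat.comp hg hh2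
  have hfib0 := flat_quotient_tensor (A := MvPolynomial (Fin n) R) (C := Localization.AtPrime q)
    (p.map (algebraMap R (MvPolynomial (Fin n) R))) _ hh ψ hψs
    (by
      rw [hψk, Ideal.map_map, Ideal.map_map, ← IsScalarTower.algebraMap_eq,
        ← IsScalarTower.algebraMap_eq])
    fun a => by
      rw [IsScalarTower.algebraMap_apply (MvPolynomial (Fin n) R) C (Localization.AtPrime q), hψa,
        ← fibreMap_map, RingHom.comp_apply, ← RingHom.comp_apply g, hgc]
      rfl
  haveI : Algebra.FinitePresentation (MvPolynomial (Fin n) R) C :=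
    Algebra.FinitePresentation.of_restrict_scalars_finitePresentation R _ C
  haveI := hfib0
  have hfib : Module.Flat (MvPolynomial (Fin n) R ⧸ p.map (algebraMap R (MvPolynomial (Fin n) R)))
      ((MvPolynomial (Fin n) R ⧸ p.map (algebraMap R (MvPolynomial (Fin n) R)))
        ⊗[MvPolynomial (Fin n) R] LocalizedModule q.primeCompl C) :=
    Module.Flat.of_linearEquiv (AlgebraTensorModule.congr (LinearEquiv.refl _ _)
      ((Depth.localizedModuleSelfEquiv q.primeCompl).restrictScalars (MvPolynomial (Fin n) R)))
  have hR : FlatCA.FlatAt R q C := by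
    haveI := hflat
    exact Module.Flat.of_linearEquiv
      ((Depth.localizedModuleSelfEquiv q.primeCompl).restrictScalars R)
  have hA' : FlatCA.FlatAt (MvPolynomial (Fin n) R) q C :=
    FlatOpen.fibre_flat_criterion R (MvPolynomial (Fin n) R) C C q hR _
      (by rw [show q.comap (algebraMap R C) = p from (q.over_def p).symm]) hfib
  haveI : Module.Flat (MvPolynomial (Fin n) R) (LocalizedModule q.primeCompl C) := hA'
  exact Module.Flat.of_linearEquiv
    ((Depth.localizedModuleSelfEquiv q.primeCompl).restrictScalars (MvPolynomial (Fin n) R)).symm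

end Forward

end Groth.Agent.RelDim
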