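import Groth.Agent.CAlgLib.LocalDimSpec
import Mathlib.RingTheory.NoetherNormalization

/-!
# Open neighbourhoods of small dimension, Noether maps from a prescribed number of variables
-/

set_option autoImplicit false
set_option linter.style.haveILetI false

universe u

namespace Groth.Agent.RelDim

variable {k : Type u} [Field k] {F : Type u} [CommRing F] [Algebra k F] [Algebra.FiniteType k F]

omit [Algebra.FiniteType k F] in
/-- If every minimal prime not below `Q` contains `f`, then the localisation away from `f` has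
dimension at most that of the components through `Q`. -/
lemma ringKrullDim_away_le {n : ℕ} (Q : Ideal F) (f : F)
    (hf : ∀ q ∈ minimalPrimes F, ¬ q ≤ Q → f ∈ q)
    (hdim : ∀ q : CAlgLib.LocalDimSpec.Mins Q, ringKrullDim (F ⧸ q.1) ≤ (n : WithBot ℕ∞))
    (T : Type u) [CommRing T] [Algebra F T] [IsLocalization.Away f T] :
    ringKrullDim T ≤ (n : WithBot ℕ∞) := by
  refine iSup_le fun l => ?_
  let c : PrimeSpectrum T → Ideal F := fun P => P.asIdeal.comap (algebraMap F T)
  have hc : StrictMono c := fun a b hab => lt_of_le_of_ne (Ideal.comap_mono hab.le) fun h =>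
    hab.ne (PrimeSpectrum.ext (by
      rw [← IsLocalization.map_under (Submonoid.powers f) T a.asIdeal,
        ← IsLocalization.map_under (Submonoid.powers f) T b.asIdeal]
      exact congrArg (Ideal.map (algebraMap F T)) h))
  have hcf : ∀ P, f ∉ c P := fun P hP =>
    P.2.ne_top (Ideal.eq_top_of_isUnit_mem _ hP (IsLocalization.Away.algebraMap_isUnit f))
  haveI : ∀ i, (c (l i)).IsPrime := fun i => Ideal.comap_isPrime _ _
  obtain ⟨q, hq, hqle⟩ := Ideal.exists_minimalPrimes_le (bot_le : (⊥ : Ideal F) ≤ c (l 0))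
  have hqQ : q ≤ Q := by_contra fun h => hcf (l 0) (hqle (hf q hq h))
  have hall : ∀ i, q ≤ c (l i) := fun i => hqle.trans (hc.monotone (l.monotone (Fin.zero_le i)))
  have hback : ∀ i, ((c (l i)).map (Ideal.Quotient.mk q)).comap (Ideal.Quotient.mk q) = c (l i) :=
    fun i => by
    rw [Ideal.comap_map_of_surjective' _ Ideal.Quotient.mk_surjective, Ideal.mk_ker,
      sup_eq_left.2 (hall i)]
  have hp : ∀ i, ((c (l i)).map (Ideal.Quotient.mk q)).IsPrime := fun i =>
    Ideal.map_isPrime_of_surjective Ideal.Quotient.mk_surjective (by rw [Ideal.mk_ker]; exact hall i)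
  let m : LTSeries (PrimeSpectrum (F ⧸ q)) := LTSeries.mk l.length (fun i => ⟨_, hp i⟩)
    (fun i j hij => lt_of_le_not_ge (Ideal.map_mono (f := Ideal.Quotient.mk q) (hc (l.strictMono hij)).le)
      (fun h => (hc (l.strictMono hij)).not_ge (by
        have h' : ((c (l j)).map (Ideal.Quotient.mk q)).comap (Ideal.Quotient.mk q) ≤
            ((c (l i)).map (Ideal.Quotient.mk q)).comap (Ideal.Quotient.mk q) := Ideal.comap_mono h
        rwa [hback, hback] at h')))
  exact le_trans (le_iSup (fun p : LTSeries (PrimeSpectrum (F ⧸ q)) => (p.length : WithBot ℕ∞)) m)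
    (hdim ⟨q, hq, hqQ⟩)

variable (k) in
include k in
/-- A point of local dimension at most `n` has a basic neighbourhood of dimension at most `n`;
moreover every multiple of the chosen element works. -/
lemma exists_notMem_forall_away_le (Q : Ideal F) [Q.IsPrime] {n : ℕ}
    (h : FlatMor.localDim (PrimeSpectrum F) ⟨Q, inferInstance⟩ ≤ (n : WithBot ℕ∞)) :
    ∃ f ∉ Q, ∀ (c : F) (T : Type u) [CommRing T] [Algebra F T] [IsLocalization.Away (c * f) T],
      ringKrullDim T ≤ (n : WithBot ℕ∞) := by
  haveI : IsNoetherianRing F := Algebra.FiniteType.isNoetherianRing k F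
  obtain ⟨f, hf, hfq⟩ := CAlgLib.LocalDimSpec.exists_separating Q
  rw [CAlgLib.LocalDimSpec.localDim_eq k Q] at h
  refine ⟨f, hf, fun c T _ _ _ => ringKrullDim_away_le Q (c * f) (fun q hq hqQ => ?_)
    (fun q => (le_iSup (fun q : CAlgLib.LocalDimSpec.Mins Q => ringKrullDim (F ⧸ q.1)) q).trans h) T⟩
  exact q.mul_mem_left c (hfq q hq hqQ)

/-- An algebra of dimension at most `n` is finite over a polynomial ring in `n` variables. -/
lemma exists_aeval_finite [Nontrivial F] {n : ℕ} (h : ringKrullDim F ≤ (n : WithBot ℕ∞)) :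
    ∃ t : Fin n → F, (MvPolynomial.aeval (R := k) t).Finite := by
  obtain ⟨s, g, inj, fin⟩ := exists_finite_inj_algHom_of_fg k F
  algebraize [g.toRingHom]
  haveI : Module.Finite (MvPolynomial (Fin s) k) F := fin
  haveI : FaithfulSMul (MvPolynomial (Fin s) k) F :=
    (faithfulSMul_iff_algebraMap_injective _ _).mpr inj
  have hs : s ≤ n := by
    rw [VarDim.ringKrullDim_eq_of_isIntegral (R := MvPolynomial (Fin s) k),
      MvPolynomial.ringKrullDim_of_isNoetherianRing, ringKrullDim_eq_zero_of_field, zero_add] at h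
    simpa using h
  let π : MvPolynomial (Fin n) k →ₐ[k] MvPolynomial (Fin s) k :=
    MvPolynomial.aeval fun i : Fin n => if hi : (i : ℕ) < s then MvPolynomial.X ⟨i, hi⟩ else 0
  have hπ : Function.Surjective π := by
    rw [← AlgHom.range_eq_top, eq_top_iff, ← MvPolynomial.adjoin_range_X]
    refine Algebra.adjoin_le ?_
    rintro _ ⟨j, rfl⟩
    exact ⟨MvPolynomial.X (Fin.castLE hs j), by simp [π]⟩
  refine ⟨fun i => g (π (MvPolynomial.X i)), ?_⟩
  have he : MvPolynomial.aeval (R := k) (fun i => g (π (MvPolynomial.X i))) = g.comp π := by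
    refine MvPolynomial.algHom_ext fun i => ?_
    rw [MvPolynomial.aeval_X, AlgHom.comp_apply]
  rw [he]
  exact RingHom.Finite.comp fin (RingHom.Finite.of_surjective π.toRingHom hπ)

omit [Algebra.FiniteType k F] in
/-- Rescaling the variables of a finite polynomial map by nonzero scalars keeps it finite. -/
lemma aeval_finite_smul {n : ℕ} {t : Fin n → F} (h : (MvPolynomial.aeval (R := k) t).Finite)
    (t' : Fin n → F) (c : Fin n → k) (hc : ∀ i, c i • t' i = t i) :
    (MvPolynomial.aeval (R := k) t').Finite := by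
  let σ : MvPolynomial (Fin n) k →ₐ[k] MvPolynomial (Fin n) k :=
    MvPolynomial.aeval fun i => c i • MvPolynomial.X i
  have he : MvPolynomial.aeval (R := k) t = (MvPolynomial.aeval (R := k) t').comp σ := by
    refine MvPolynomial.algHom_ext fun i => ?_
    simp [σ, hc]
  rw [he] at h
  exact RingHom.Finite.of_comp_finite (f := σ.toRingHom) h

end Groth.Agent.RelDim
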