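import Groth.Agent.RelDim.CMLocus
import Mathlib.RingTheory.Localization.Away.Lemmas
import Mathlib.RingTheory.Idempotents

/-!
# Decomposition of a Cohen–Macaulay algebra by relative dimension
-/

set_option autoImplicit false
set_option linter.style.haveILetI false

universe u

open TensorProduct

namespace Groth.Agent.RelDim

section Partition

variable {S : Type u} [CommRing S] {ι : Type} [Fintype ι]

/-- A finite partition of the spectrum into open sets comes from orthogonal idempotents. -/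
lemma exists_completeOrthogonalIdempotents (V : ι → Set (PrimeSpectrum S))
    (hV : ∀ i, IsOpen (V i)) (hdisj : ∀ i j, i ≠ j → V i ∩ V j = ∅)
    (hcov : ∀ q, ∃ i, q ∈ V i) :
    ∃ e : ι → S, CompleteOrthogonalIdempotents e ∧
      ∀ i q, q ∈ V i ↔ e i ∉ PrimeSpectrum.asIdeal q := by
  classical
  have hclopen : ∀ i, IsClopen (V i) := fun i => by
    refine ⟨?_, hV i⟩
    rw [← isOpen_compl_iff]
    have : (V i)ᶜ = ⋃ (j : ι) (_ : j ≠ i), V j := by
      ext q
      simp only [Set.mem_compl_iff, Set.mem_iUnion, exists_prop]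
      constructor
      · intro h
        obtain ⟨j, hj⟩ := hcov q
        exact ⟨j, fun hji => h (hji ▸ hj), hj⟩
      · rintro ⟨j, hji, hj⟩ hi
        exact (Set.eq_empty_iff_forall_notMem.1 (hdisj j i hji) q) ⟨hj, hi⟩
    rw [this]
    exact isOpen_biUnion fun j _ => hV j
  choose e he heV using fun i => PrimeSpectrum.isClopen_iff.1 (hclopen i)
  have hmem : ∀ i q, q ∈ V i ↔ e i ∉ PrimeSpectrum.asIdeal q := fun i q => by rw [heV i]; rfl
  have hortho : Pairwise fun i j => e i * e j = 0 := fun i j hij => by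
    refine ((he i).mul (he j)).eq_zero_of_isNilpotent (nilpotent_iff_mem_prime.2 fun P hP => ?_)
    by_contra hn
    refine Set.eq_empty_iff_forall_notMem.1 (hdisj i j hij) ⟨P, hP⟩ ⟨?_, ?_⟩
    · exact (hmem i _).2 fun h => hn (P.mul_mem_right _ h)
    · exact (hmem j _).2 fun h => hn (P.mul_mem_left _ h)
  refine ⟨e, ⟨⟨he, hortho⟩, ?_⟩, hmem⟩
  have hsum : IsIdempotentElem (∑ i, e i) :=
    (OrthogonalIdempotents.mk he hortho).isIdempotentElem_sum (s := Finset.univ)
  refine (IsIdempotentElem.iff_eq_one_of_isUnit ?_).1 hsum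
  by_contra hu
  obtain ⟨M, hM, hMs⟩ := exists_max_ideal_of_mem_nonunits (show (∑ i, e i) ∈ nonunits S from hu)
  obtain ⟨i, hi⟩ := hcov ⟨M, hM.isPrime⟩
  refine (hmem i _).1 hi ?_
  have h2 : e i * ∑ j, e j = e i := by
    rw [Finset.mul_sum, Finset.sum_eq_single i]
    · exact he i
    · exact fun j _ hj => hortho (Ne.symm hj)
    · simp
  rw [← h2]
  exact M.mul_mem_left _ hMs

end Partition

section Fibre

variable {R S : Type u} [CommRing R] [CommRing S] [Algebra R S]

lemma HasFibDim.localDim_eq {q : PrimeSpectrum S} {n : ℕ} (h : HasFibDim R S q n)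
    (p : Ideal R) [p.IsPrime] [q.asIdeal.LiesOver p] (Q : PrimeSpectrum (p.Fiber S))
    (hQ : Q.asIdeal.comap Algebra.TensorProduct.includeRight.toRingHom = q.asIdeal) :
    FlatMor.localDim (PrimeSpectrum (p.Fiber S)) Q = (n : WithBot ℕ∞) := by
  obtain rfl : p = q.asIdeal.under R := q.asIdeal.over_def p
  exact h Q hQ

lemma HasFibDim.unique {q : PrimeSpectrum S} {m n : ℕ} (h : HasFibDim R S q m)
    (h' : HasFibDim R S q n) : m = n := by
  obtain ⟨Q, hQ⟩ := exists_over' (q.asIdeal.under R) q.asIdeal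
  exact_mod_cast (h Q hQ).symm.trans (h' Q hQ)

/-- A flat algebra with Cohen–Macaulay fibre rings is Cohen–Macaulay at every point. -/
lemma isCMPoint_of_fibres [Algebra.FiniteType R S] [Module.Flat R S]
    (hCM : ∀ p : PrimeSpectrum R, LocCoh.IsCohenMacaulayRing (p.asIdeal.Fiber S))
    (q : PrimeSpectrum S) : IsCMPoint R S q := by
  haveI : Module.Flat S (Localization.AtPrime q.asIdeal) :=
    IsLocalization.flat _ q.asIdeal.primeCompl
  refine ⟨Module.Flat.trans R S _, ?_⟩
  obtain ⟨Q, hQ⟩ := exists_over' (q.asIdeal.under R) q.asIdeal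
  obtain ⟨e⟩ := nonempty_equiv_fibLocRing (q.asIdeal.under R) q.asIdeal Q.asIdeal hQ
  haveI := hCM ⟨q.asIdeal.under R, inferInstance⟩
  haveI := LocCoh.IsCohenMacaulayRing.isCohenMacaulayLocalRing_localization
    (R := (q.asIdeal.under R).Fiber S) Q.asIdeal
  exact isCohenMacaulayLocalRing_ringEquiv (A := Localization.AtPrime Q.asIdeal) e.symm

/-- Conversely the fibre rings of an algebra which is Cohen–Macaulay at every point are
Cohen–Macaulay. -/
lemma isCohenMacaulayRing_fibre [Algebra.FiniteType R S] (h : ∀ q, IsCMPoint R S q) (p : Ideal R)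
    [p.IsPrime] : LocCoh.IsCohenMacaulayRing (p.Fiber S) := by
  haveI : IsNoetherianRing (p.Fiber S) := Algebra.FiniteType.isNoetherianRing p.ResidueField _
  refine ⟨fun Q hQ => ?_⟩
  let q : Ideal S := Q.comap Algebra.TensorProduct.includeRight.toRingHom
  have hov : q.LiesOver p := ⟨(congrArg PrimeSpectrum.asIdeal
    ((PrimeSpectrum.preimageEquivFiber R S ⟨p, inferInstance⟩).symm ⟨Q, hQ⟩).2).symm⟩
  obtain ⟨e⟩ := nonempty_equiv_fibLocRing p q Q rfl
  haveI := (h ⟨q, inferInstance⟩).2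
  exact isCohenMacaulayLocalRing_ringEquiv (A := EGA4.FibLocRing R S q) e

/-- EGA IV: a flat fp algebra with Cohen–Macaulay fibres is a product by relative dimension. -/
theorem exists_decomposition [Algebra.FinitePresentation R S] (h : ∀ q, IsCMPoint R S q) :
    ∃ (N : ℕ) (e : Fin (N + 1) → S), CompleteOrthogonalIdempotents e ∧
      ∀ d : Fin (N + 1), IsLocalization.Away (e d) (S ⧸ Ideal.span {1 - e d}) ∧
        ∀ q' : PrimeSpectrum (S ⧸ Ideal.span {1 - e d}),
          IsCMPoint R (S ⧸ Ideal.span {1 - e d}) q' ∧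
            HasFibDim R (S ⧸ Ideal.span {1 - e d}) q' d := by
  classical
  choose n hn using fun q : PrimeSpectrum S => exists_hasFibDim (R := R) q
  obtain ⟨t, ht⟩ := isCompact_univ.elim_finite_subcover
    (fun d : ℕ => {q : PrimeSpectrum S | IsCMPoint R S q ∧ HasFibDim R S q d})
    isOpen_setOf_isCMPoint_hasFibDim fun q _ => Set.mem_iUnion.2 ⟨n q, h q, hn q⟩
  let N := t.sup id
  let V : Fin (N + 1) → Set (PrimeSpectrum S) :=
    fun d => {q | IsCMPoint R S q ∧ HasFibDim R S q d}
  obtain ⟨e, he, hV⟩ := exists_completeOrthogonalIdempotents V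
    (fun d => isOpen_setOf_isCMPoint_hasFibDim _)
    (fun i j hij => Set.eq_empty_iff_forall_notMem.2 fun q hq => hij (Fin.ext (hq.1.2.unique hq.2.2)))
    fun q => by
      obtain ⟨d, hd, hq⟩ := Set.mem_iUnion₂.1 (ht (Set.mem_univ q))
      exact ⟨⟨d, Nat.lt_succ_of_le (Finset.le_sup (f := id) hd)⟩, hq⟩
  refine ⟨N, e, he, fun d => ?_⟩
  have hloc : IsLocalization.Away (e d) (S ⧸ Ideal.span {1 - e d}) :=
    IsLocalization.Away.quotient_of_isIdempotentElem (he.idem d)
  refine ⟨hloc, fun q' => ?_⟩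
  haveI := hloc
  let q := PrimeSpectrum.comap (algebraMap S (S ⧸ Ideal.span {1 - e d})) q'
  have hqV : q ∈ V d := (hV d q).2 fun hmem =>
    q'.2.ne_top (Ideal.eq_top_of_isUnit_mem _ hmem (IsLocalization.Away.algebraMap_isUnit (e d)))
  obtain ⟨hfl, ⟨eL⟩⟩ := flat_iff_and_fibLocRing_of_isLocalization (R := R)
    (C := S ⧸ Ideal.span {1 - e d}) (Submonoid.powers (e d)) q.asIdeal q'.asIdeal rfl
  haveI := hqV.1.2
  refine ⟨⟨hfl.1 hqV.1.1, isCohenMacaulayLocalRing_ringEquiv eL⟩, fun Q' hQ' => ?_⟩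
  haveI : q.asIdeal.LiesOver (q'.asIdeal.under R) := ⟨by
    show q'.asIdeal.comap (algebraMap R (S ⧸ Ideal.span {1 - e d})) =
      (q'.asIdeal.comap (algebraMap S _)).comap (algebraMap R S)
    rw [Ideal.comap_comap, ← IsScalarTower.algebraMap_eq]⟩
  haveI : Algebra.FinitePresentation S (S ⧸ Ideal.span {1 - e d}) :=
    IsLocalization.Away.finitePresentation (e d)
  obtain ⟨Q, hQ⟩ := exists_over' (q'.asIdeal.under R) q.asIdeal
  rw [← localDim_eq_of_isLocalization (Submonoid.powers (e d)) (q'.asIdeal.under R) q.asIdeal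
    q'.asIdeal rfl Q hQ Q' hQ']
  exact hqV.2.localDim_eq _ Q hQ

end Fibre

end Groth.Agent.RelDim
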